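import Cfsg.Agent.H235.Ore.McLM
import Cfsg.Agent.H777.Ore.Base
import Cfsg.Agent.H78.Pw.Base

/-!
# The classes of the McLaughlin group under `McL : 2`; commutators, products of four involutions, products of two
elements of order prime to `6` or to `p` (helper235)
-/

set_option autoImplicit false
set_option maxRecDepth 100000

namespace Cfsg.Agent.H235.Ore.McL

open Cfsg.Agent.McLType.Gens Cfsg.Agent.H904.McLCent Cfsg.Agent.H235.Ore.Eng Cfsg.Agent.H235.Ore.McLM Subgroup Equiv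
open Cfsg.Agent.H777.Ore Cfsg.Agent.H78.Pw

universe u

/-! ### Centralizers -/

def x2A : List ℕ := [0]
def l2A : List Lv := [⟨75, [], [(1, 2)], [], 35⟩,
  ⟨15, [(75, 1)], [(1, 0)], [], 96⟩,
  ⟨34, [(75, 1), (15, 0), (31, 0)], [(1, 0)], [⟨[(75, 0), (15, 0)], [(1, 2)], [238, 189, 128, 116, 69, 64, 62, 49, 0], 6⟩], 2⟩,
  ⟨247, [(6, 1), (15, 0), (31, 0), (75, 0)], [(1, 0)], [], 12⟩,
  ⟨77, [(75, 1), (247, 0), (15, 0)], [(1, 2)], [⟨[(75, 1), (31, 1), (34, 1), (199, 1)], [(1, 0)], [133, 78], 0⟩], 1⟩,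
  ⟨267, [(75, 1), (15, 1), (31, 1), (199, 0)], [(1, 0)], [], 1⟩,
  ⟨7, [(75, 1), (260, 1), (199, 1), (6, 0), (77, 0)], [(1, 0)], [], 1⟩,
  ⟨32, [(199, 1), (260, 1), (6, 0), (247, 0)], [], [], 1⟩]
theorem b2A : Nat.card ↥(centralizer ({w2 x2A} : Set ↥M2)) ≤ 80640 :=
  (bnd (X := x2A) (l := l2A) (m := 2) (by decide +kernel)).trans (by decide)
theorem o2A : orderOf (wd x2A) = 2 := orderOf_eq (pv_pw _) (ps := [2]) (by norm_num) (by norm_num)
  (by decide +kernel) (by norm_num)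
theorem f2A : fixN (wd x2A) = 35 := by
  rw [← pow_one (wd x2A), fixN_pow (pv_pw _)]
  decide +kernel

def x3A : List ℕ := [0, 2, 5, 3]
def l3A : List Lv := [⟨62, [], [(1, 1)], [], 270⟩,
  ⟨91, [(62, 1), (233, 1), (149, 0)], [], [], 27⟩,
  ⟨207, [(62, 1), (91, 1), (51, 1)], [], [], 2⟩,
  ⟨46, [(62, 1), (110, 1), (158, 1), (186, 1)], [], [], 2⟩,
  ⟨96, [(62, 1), (149, 1), (110, 1), (77, 0)], [], [], 2⟩,
  ⟨267, [(233, 1), (44, 1), (96, 1), (207, 1), (38, 1)], [], [], 1⟩,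
  ⟨199, [(149, 1), (233, 1), (91, 1), (38, 1), (96, 1)], [], [], 1⟩,
  ⟨7, [(233, 1), (110, 1), (44, 1), (199, 1), (51, 0)], [], [], 1⟩,
  ⟨32, [(62, 1), (207, 1), (186, 1), (253, 1), (149, 0)], [], [], 1⟩]
theorem b3A : Nat.card ↥(centralizer ({w2 x3A} : Set ↥M2)) ≤ 58320 :=
  (bnd (X := x3A) (l := l3A) (m := 3) (by decide +kernel)).trans (by decide)
theorem o3A : orderOf (wd x3A) = 3 := orderOf_eq (pv_pw _) (ps := [3]) (by norm_num) (by norm_num)
  (by decide +kernel) (by norm_num)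
theorem f3A : fixN (wd x3A) = 5 := by
  rw [← pow_one (wd x3A), fixN_pow (pv_pw _)]
  decide +kernel

def x3B : List ℕ := [0, 3]
def l3B : List Lv := [⟨27, [], [(1, 1)], [], 18⟩,
  ⟨0, [(27, 1)], [(1, 2)], [], 2⟩,
  ⟨167, [(115, 1), (0, 1)], [(1, 0)], [], 27⟩,
  ⟨143, [(115, 1), (112, 1), (226, 1), (167, 0), (272, 1)], [], [⟨[(115, 1), (167, 1), (27, 0), (112, 0), (226, 1), (272, 1)], [], [80, 48, 46, 12, 1], 2⟩], 2⟩,
  ⟨77, [(27, 1), (272, 1), (167, 0), (115, 0), (151, 0)], [], [], 1⟩,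
  ⟨267, [(112, 1), (0, 1), (77, 0), (94, 0), (272, 0), (136, 0)], [], [], 1⟩,
  ⟨199, [(115, 1), (0, 1), (272, 1), (260, 1), (136, 0)], [], [], 1⟩,
  ⟨7, [(112, 1), (226, 1), (94, 0), (115, 0), (260, 1), (136, 0)], [], [], 1⟩,
  ⟨32, [(27, 1), (136, 1), (143, 0), (269, 1), (115, 0)], [], [], 1⟩]
theorem b3B : Nat.card ↥(centralizer ({w2 x3B} : Set ↥M2)) ≤ 1944 :=
  (bnd (X := x3B) (l := l3B) (m := 3) (by decide +kernel)).trans (by decide)
theorem o3B : orderOf (wd x3B) = 3 := orderOf_eq (pv_pw _) (ps := [3]) (by norm_num) (by norm_num)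
  (by decide +kernel) (by norm_num)
theorem f3B : fixN (wd x3B) = 14 := by
  rw [← pow_one (wd x3B), fixN_pow (pv_pw _)]
  decide +kernel

def x4A : List ℕ := [0, 1]
def l4A : List Lv := [⟨126, [], [(1, 1), (2, 0)], [], 48⟩,
  ⟨26, [(126, 1), (267, 1)], [(1, 1)], [], 4⟩,
  ⟨77, [(126, 1), (237, 1), (44, 1), (186, 0), (6, 0), (26, 0)], [], [⟨[(126, 1)], [(1, 2)], [75, 0], 1⟩], 1⟩,
  ⟨199, [(126, 1), (83, 1), (237, 1), (80, 0), (26, 0)], [], [], 1⟩,
  ⟨7, [(126, 1), (199, 1), (80, 0), (267, 0), (232, 0), (237, 0)], [], [], 1⟩,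
  ⟨32, [(126, 1), (267, 1), (237, 1), (44, 1)], [], [], 1⟩]
theorem b4A : Nat.card ↥(centralizer ({w2 x4A} : Set ↥M2)) ≤ 192 :=
  (bnd (X := x4A) (l := l4A) (m := 4) (by decide +kernel)).trans (by decide)
theorem o4A : orderOf (wd x4A) = 4 := orderOf_eq (pv_pw _) (ps := [2]) (by norm_num) (by norm_num)
  (by decide +kernel) (by norm_num)
theorem f4A : fixN (wd x4A) = 7 := by
  rw [← pow_one (wd x4A), fixN_pow (pv_pw _)]
  decide +kernel

def x5A : List ℕ := [0, 1, 3, 2, 4, 5]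
def l5A : List Lv := [⟨161, [], [(2, 0)], [], 75⟩,
  ⟨120, [(209, 1), (140, 1), (161, 0)], [(1, 1)], [], 5⟩,
  ⟨128, [(161, 1), (211, 1), (140, 0), (120, 0)], [(1, 1)], [], 4⟩,
  ⟨77, [(161, 1), (128, 1), (140, 0), (7, 0)], [(1, 0)], [], 1⟩,
  ⟨267, [(140, 1), (199, 0), (161, 0), (7, 0)], [(1, 0)], [], 1⟩,
  ⟨32, [(161, 1), (199, 1), (209, 0), (264, 1)], [(1, 1)], [], 1⟩]
theorem b5A : Nat.card ↥(centralizer ({w2 x5A} : Set ↥M2)) ≤ 1500 :=
  (bnd (X := x5A) (l := l5A) (m := 5) (by decide +kernel)).trans (by decide)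
theorem o5A : orderOf (wd x5A) = 5 := orderOf_eq (pv_pw _) (ps := [5]) (by norm_num) (by norm_num)
  (by decide +kernel) (by norm_num)
theorem f5A : fixN (wd x5A) = 0 := by
  rw [← pow_one (wd x5A), fixN_pow (pv_pw _)]
  decide +kernel

def x5B : List ℕ := [3, 6]
def l5B : List Lv := [⟨262, [], [(2, 1)], [⟨[], [(1, 2)], [149, 146, 103, 94, 0], 0⟩], 10⟩,
  ⟨57, [(262, 1), (30, 1)], [(1, 1)], [], 5⟩,
  ⟨267, [(179, 1), (154, 1), (262, 0), (68, 1)], [(1, 0)], [], 1⟩,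
  ⟨199, [(262, 1), (7, 1), (257, 1), (68, 1)], [], [], 1⟩,
  ⟨32, [(262, 1), (132, 1), (239, 1)], [(2, 1)], [], 1⟩]
theorem b5B : Nat.card ↥(centralizer ({w2 x5B} : Set ↥M2)) ≤ 50 :=
  (bnd (X := x5B) (l := l5B) (m := 5) (by decide +kernel)).trans (by decide)
theorem o5B : orderOf (wd x5B) = 5 := orderOf_eq (pv_pw _) (ps := [5]) (by norm_num) (by norm_num)
  (by decide +kernel) (by norm_num)
theorem f5B : fixN (wd x5B) = 5 := by
  rw [← pow_one (wd x5B), fixN_pow (pv_pw _)]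
  decide +kernel

def x6A : List ℕ := [0, 2, 3, 5]
def l6A : List Lv := [⟨104, [], [(1, 1)], [], 30⟩,
  ⟨126, [(104, 1), (49, 0), (81, 0)], [(1, 1)], [], 6⟩,
  ⟨69, [(104, 1), (49, 1), (81, 0), (126, 0)], [(1, 1)], [], 2⟩,
  ⟨167, [(49, 1), (81, 1), (237, 1), (131, 0), (6, 0)], [(1, 0)], [], 2⟩,
  ⟨77, [(49, 1), (69, 1), (237, 1), (244, 1), (126, 1), (6, 0)], [(1, 0)], [], 1⟩,
  ⟨199, [(81, 1), (237, 1), (244, 1), (25, 1), (162, 0)], [], [], 1⟩,
  ⟨7, [(81, 1), (167, 1), (126, 1), (199, 1), (104, 0)], [], [], 1⟩,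
  ⟨32, [(49, 1), (267, 1), (196, 1), (104, 0)], [], [], 1⟩]
theorem b6A : Nat.card ↥(centralizer ({w2 x6A} : Set ↥M2)) ≤ 720 :=
  (bnd (X := x6A) (l := l6A) (m := 6) (by decide +kernel)).trans (by decide)
theorem o6A : orderOf (wd x6A) = 6 := orderOf_eq (pv_pw _) (ps := [2, 3]) (by norm_num) (by norm_num)
  (by decide +kernel) (by norm_num)
theorem f6A : fixN (wd x6A) = 5 := by
  rw [← pow_one (wd x6A), fixN_pow (pv_pw _)]
  decide +kernel

def x6B : List ℕ := [0, 2, 3]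
def l6B : List Lv := [⟨124, [], [(2, 1), (1, 1)], [], 6⟩,
  ⟨172, [(124, 1), (23, 1)], [(1, 1), (2, 0)], [], 12⟩,
  ⟨77, [(124, 1), (228, 1), (188, 1), (183, 0)], [(1, 1)], [], 1⟩,
  ⟨267, [(23, 1), (41, 1), (228, 1), (183, 0), (113, 0), (172, 0)], [(1, 1)], [], 1⟩,
  ⟨199, [(124, 1), (225, 1), (188, 0), (222, 0), (23, 0)], [(1, 0)], [], 1⟩,
  ⟨7, [(23, 1), (188, 1), (228, 1), (213, 1), (269, 1)], [], [], 1⟩,
  ⟨32, [(23, 1), (188, 1), (228, 1), (267, 1)], [(1, 1)], [], 1⟩]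
theorem b6B : Nat.card ↥(centralizer ({w2 x6B} : Set ↥M2)) ≤ 72 :=
  (bnd (X := x6B) (l := l6B) (m := 6) (by decide +kernel)).trans (by decide)
theorem o6B : orderOf (wd x6B) = 6 := orderOf_eq (pv_pw _) (ps := [2, 3]) (by norm_num) (by norm_num)
  (by decide +kernel) (by norm_num)
theorem f6B : fixN (wd x6B) = 2 := by
  rw [← pow_one (wd x6B), fixN_pow (pv_pw _)]
  decide +kernel

def x7A : List ℕ := [0, 1, 4, 3]
def l7A : List Lv := [⟨182, [], [(2, 1), (1, 0), (3, 0)], [⟨[], [(1, 0), (2, 0), (3, 0)], [274, 273, 271, 270, 266, 252, 250, 249, 247, 242, 241, 239, 235, 233, 232, 231, 230, 227, 223, 222, 221, 210, 206, 199, 196, 195, 188, 186, 183, 176, 175, 174, 171, 169, 164, 161, 152, 149, 146, 142, 133, 128, 125, 122, 116, 115, 111, 106, 105, 96, 95, 94, 93, 91, 90, 88, 87, 83, 82, 81, 80, 78, 77, 76, 75, 69, 67, 61, 55, 51, 45, 42, 36, 35, 27, 26, 16, 13, 9, 7, 5, 3, 2, 0], 36⟩], 14⟩,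
  ⟨77, [(182, 1), (211, 0), (173, 0), (58, 1), (32, 0)], [(1, 0), (2, 0)], [⟨[(211, 1), (182, 0), (32, 0), (173, 0), (205, 0)], [], [223, 183, 93, 0], 1⟩], 1⟩,
  ⟨267, [(111, 1), (205, 0)], [(2, 1), (3, 1)], [], 1⟩,
  ⟨199, [(182, 1), (32, 1), (7, 1), (126, 1), (58, 1)], [], [], 1⟩]
theorem b7A : Nat.card ↥(centralizer ({w2 x7A} : Set ↥M2)) ≤ 14 :=
  (bnd (X := x7A) (l := l7A) (m := 7) (by decide +kernel)).trans (by decide)
theorem o7A : orderOf (wd x7A) = 7 := orderOf_eq (pv_pw _) (ps := [7]) (by norm_num) (by norm_num)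
  (by decide +kernel) (by norm_num)
theorem f7A : fixN (wd x7A) = 2 := by
  rw [← pow_one (wd x7A), fixN_pow (pv_pw _)]
  decide +kernel

def x8A : List ℕ := [0, 1, 2]
def l8A : List Lv := [⟨57, [], [(2, 1), (3, 1), (1, 0)], [], 16⟩,
  ⟨77, [(212, 1), (22, 1)], [(3, 1), (1, 0), (2, 0)], [⟨[(212, 1), (78, 1), (94, 0), (70, 0)], [(1, 0)], [17], 0⟩], 1⟩,
  ⟨267, [(57, 1), (43, 1), (77, 0)], [(4, 2), (1, 0)], [], 1⟩,
  ⟨199, [(212, 1), (22, 1), (78, 1), (108, 1), (94, 0)], [], [], 1⟩,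
  ⟨7, [(212, 1), (86, 1)], [(2, 1), (1, 1), (3, 0)], [], 1⟩,
  ⟨32, [(94, 1), (274, 1), (250, 1), (180, 0)], [(1, 1)], [], 1⟩]
theorem b8A : Nat.card ↥(centralizer ({w2 x8A} : Set ↥M2)) ≤ 16 :=
  (bnd (X := x8A) (l := l8A) (m := 8) (by decide +kernel)).trans (by decide)
theorem o8A : orderOf (wd x8A) = 8 := orderOf_eq (pv_pw _) (ps := [2]) (by norm_num) (by norm_num)
  (by decide +kernel) (by norm_num)
theorem f8A : fixN (wd x8A) = 1 := by
  rw [← pow_one (wd x8A), fixN_pow (pv_pw _)]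
  decide +kernel

def x9A : List ℕ := [0, 6, 3, 6, 5]
def l9A : List Lv := [⟨205, [], [(2, 1), (1, 0)], [⟨[], [(1, 2)], [131, 0], 0⟩], 27⟩,
  ⟨77, [(238, 1), (22, 1), (256, 0), (83, 0), (205, 0), (25, 0)], [(4, 1)], [], 1⟩,
  ⟨267, [(238, 1), (22, 1), (25, 1), (256, 0)], [(4, 1)], [], 1⟩,
  ⟨199, [(25, 1), (83, 1), (77, 0), (238, 0)], [(4, 1)], [], 1⟩,
  ⟨7, [(179, 1), (117, 1), (259, 1), (205, 0)], [(2, 1)], [], 1⟩,
  ⟨32, [(48, 1), (267, 1), (179, 1), (205, 0)], [(4, 1)], [], 1⟩]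
theorem b9A : Nat.card ↥(centralizer ({w2 x9A} : Set ↥M2)) ≤ 27 :=
  (bnd (X := x9A) (l := l9A) (m := 9) (by decide +kernel)).trans (by decide)
theorem o9A : orderOf (wd x9A) = 9 := orderOf_eq (pv_pw _) (ps := [3]) (by norm_num) (by norm_num)
  (by decide +kernel) (by norm_num)
theorem f9A : fixN (wd x9A) = 2 := by
  rw [← pow_one (wd x9A), fixN_pow (pv_pw _)]
  decide +kernel

def x10A : List ℕ := [3, 4, 3, 5, 6]
def l10A : List Lv := [⟨261, [], [(1, 1), (5, 0)], [], 60⟩,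
  ⟨77, [(170, 1), (76, 1), (160, 1), (151, 0)], [(3, 1)], [], 1⟩,
  ⟨267, [(42, 1), (151, 1), (170, 1)], [(2, 0)], [], 1⟩,
  ⟨7, [(261, 1), (228, 1), (170, 1), (151, 0)], [(3, 1)], [], 1⟩,
  ⟨32, [(199, 1), (212, 1), (194, 1)], [(2, 0)], [], 1⟩]
theorem b10A : Nat.card ↥(centralizer ({w2 x10A} : Set ↥M2)) ≤ 60 :=
  (bnd (X := x10A) (l := l10A) (m := 10) (by decide +kernel)).trans (by decide)
theorem o10A : orderOf (wd x10A) = 10 := orderOf_eq (pv_pw _) (ps := [2, 5]) (by norm_num) (by norm_num)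
  (by decide +kernel) (by norm_num)
theorem f10A : fixN (wd x10A) = 0 := by
  rw [← pow_one (wd x10A), fixN_pow (pv_pw _)]
  decide +kernel

def x11A : List ℕ := [4, 6, 5, 3]
def l11A : List Lv := [⟨106, [], [(1, 1), (4, 1), (2, 0)], [], 22⟩,
  ⟨77, [(220, 1), (265, 1), (106, 0)], [(2, 1), (3, 1)], [], 1⟩,
  ⟨267, [(76, 1), (1, 1)], [(2, 1), (5, 1), (1, 0)], [], 1⟩,
  ⟨199, [(106, 1), (220, 1), (205, 0)], [(1, 1), (2, 1)], [], 1⟩,
  ⟨7, [(107, 1), (199, 1), (132, 0), (269, 1)], [(1, 0)], [], 1⟩,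
  ⟨32, [(199, 1), (1, 1), (269, 1)], [(1, 1), (2, 1)], [], 1⟩]
theorem b11A : Nat.card ↥(centralizer ({w2 x11A} : Set ↥M2)) ≤ 22 :=
  (bnd (X := x11A) (l := l11A) (m := 11) (by decide +kernel)).trans (by decide)
theorem o11A : orderOf (wd x11A) = 11 := orderOf_eq (pv_pw _) (ps := [11]) (by norm_num) (by norm_num)
  (by decide +kernel) (by norm_num)
theorem f11A : fixN (wd x11A) = 0 := by
  rw [← pow_one (wd x11A), fixN_pow (pv_pw _)]
  decide +kernel

def x12A : List ℕ := [0, 3, 5, 6]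
def l12A : List Lv := [⟨153, [], [(2, 1), (1, 0)], [], 12⟩,
  ⟨209, [(196, 1), (273, 0), (6, 0)], [(1, 0), (2, 0)], [⟨[(153, 1), (131, 1), (273, 1)], [(1, 0)], [137, 68, 19, 1], 3⟩], 2⟩,
  ⟨77, [(273, 1), (131, 0), (232, 1), (6, 0), (196, 1)], [(1, 0)], [], 1⟩,
  ⟨267, [(196, 1), (273, 0), (6, 0), (102, 1), (189, 1)], [(1, 0)], [], 1⟩,
  ⟨199, [(153, 1), (109, 1), (6, 0), (270, 0)], [], [], 1⟩,
  ⟨7, [(273, 1), (171, 1), (131, 0), (6, 0)], [(1, 0)], [], 1⟩,
  ⟨32, [(166, 1), (273, 1), (131, 0), (261, 0)], [], [], 1⟩]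
theorem b12A : Nat.card ↥(centralizer ({w2 x12A} : Set ↥M2)) ≤ 24 :=
  (bnd (X := x12A) (l := l12A) (m := 12) (by decide +kernel)).trans (by decide)
theorem o12A : orderOf (wd x12A) = 12 := orderOf_eq (pv_pw _) (ps := [2, 3]) (by norm_num) (by norm_num)
  (by decide +kernel) (by norm_num)
theorem f12A : fixN (wd x12A) = 1 := by
  rw [← pow_one (wd x12A), fixN_pow (pv_pw _)]
  decide +kernel

def x14A : List ℕ := [2, 4, 5, 6]
def l14A : List Lv := [⟨58, [], [(6, 1), (1, 0), (2, 0)], [], 14⟩,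
  ⟨77, [(178, 0), (118, 0), (243, 1)], [(7, 2), (1, 1)], [], 1⟩,
  ⟨267, [(170, 1), (8, 1), (158, 0)], [(6, 1), (1, 1)], [], 1⟩,
  ⟨32, [(199, 1), (244, 1), (47, 0), (267, 1)], [(4, 1)], [], 1⟩]
theorem b14A : Nat.card ↥(centralizer ({w2 x14A} : Set ↥M2)) ≤ 14 :=
  (bnd (X := x14A) (l := l14A) (m := 14) (by decide +kernel)).trans (by decide)
theorem o14A : orderOf (wd x14A) = 14 := orderOf_eq (pv_pw _) (ps := [2, 7]) (by norm_num) (by norm_num)
  (by decide +kernel) (by norm_num)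
theorem f14A : fixN (wd x14A) = 0 := by
  rw [← pow_one (wd x14A), fixN_pow (pv_pw _)]
  decide +kernel

def x15A : List ℕ := [0, 3, 6, 5, 4]
def l15A : List Lv := [⟨264, [], [(3, 0), (1, 1)], [], 30⟩,
  ⟨77, [(124, 1), (44, 1), (70, 1), (228, 1)], [(4, 1)], [], 1⟩,
  ⟨267, [(18, 1), (57, 1), (44, 1)], [(1, 1), (2, 0)], [], 1⟩,
  ⟨199, [(124, 1), (156, 1), (57, 0)], [(6, 0), (1, 0)], [], 1⟩,
  ⟨7, [(264, 1), (18, 1), (163, 0)], [(6, 0)], [], 1⟩,
  ⟨32, [(264, 1), (239, 1), (124, 0)], [(3, 0), (2, 0)], [], 1⟩]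
theorem b15A : Nat.card ↥(centralizer ({w2 x15A} : Set ↥M2)) ≤ 30 :=
  (bnd (X := x15A) (l := l15A) (m := 15) (by decide +kernel)).trans (by decide)
theorem o15A : orderOf (wd x15A) = 15 := orderOf_eq (pv_pw _) (ps := [3, 5]) (by norm_num) (by norm_num)
  (by decide +kernel) (by norm_num)
theorem f15A : fixN (wd x15A) = 0 := by
  rw [← pow_one (wd x15A), fixN_pow (pv_pw _)]
  decide +kernel

def x30A : List ℕ := [2, 5, 3, 6, 4]
def l30A : List Lv := [⟨241, [], [(12, 0), (8, 0)], [], 30⟩,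
  ⟨77, [(241, 1), (222, 1), (58, 1)], [(9, 1), (7, 0)], [], 1⟩,
  ⟨267, [(241, 1), (25, 1), (270, 0)], [(12, 0), (2, 0)], [], 1⟩,
  ⟨199, [(35, 1), (117, 1)], [(6, 0), (1, 0)], [], 1⟩]
theorem b30A : Nat.card ↥(centralizer ({w2 x30A} : Set ↥M2)) ≤ 30 :=
  (bnd (X := x30A) (l := l30A) (m := 30) (by decide +kernel)).trans (by decide)
theorem o30A : orderOf (wd x30A) = 30 := orderOf_eq (pv_pw _) (ps := [2, 3, 5]) (by norm_num) (by norm_num)
  (by decide +kernel) (by norm_num)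
theorem f30A : fixN (wd x30A) = 0 := by
  rw [← pow_one (wd x30A), fixN_pow (pv_pw _)]
  decide +kernel

/-! ### The list -/

open Classical in
/-- order, number of fixed points, a bit -/
noncomputable def inv (g : ↥M2) : ℕ × ℕ × ℕ :=
  (orderOf (g : Perm (Fin 275)), fixN (g : Perm (Fin 275)), if IsConj (w2 x11A) g then 1 else 0)

theorem inv_conj {g h : ↥M2} (k : IsConj g h) : inv g = inv h := by
  unfold inv
  have h1 : IsConj (w2 x11A) g ↔ IsConj (w2 x11A) h := ⟨fun t => t.trans k, fun t => t.trans k.symm⟩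
  have h2 : orderOf (g : Perm (Fin 275)) = orderOf (h : Perm (Fin 275)) := by
    obtain ⟨c, rfl⟩ := isConj_iff.1 k
    exact ((MulAut.conj (c : Perm (Fin 275))).orderOf_eq (g : Perm (Fin 275))).symm
  have h3 : fixN (g : Perm (Fin 275)) = fixN (h : Perm (Fin 275)) := by
    obtain ⟨c, rfl⟩ := isConj_iff.1 k
    exact (fixN_conj (c : Perm (Fin 275)) g).symm
  rw [h2, h3]
  by_cases t : IsConj (w2 x11A) g
  · rw [if_pos t, if_pos (h1.1 t)]
  · rw [if_neg t, if_neg fun k => t (h1.2 k)]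

noncomputable def invC : ConjClasses ↥M2 → ℕ × ℕ × ℕ := Quotient.lift inv fun _ _ h => inv_conj h

theorem inv_w2 {X : List ℕ} {o f : ℕ} (ho : orderOf (wd X) = o) (hf : fixN (wd X) = f) (h : o ≠ 11) :
    inv (w2 X) = (o, f, 0) := by
  have h1 : ¬ IsConj (w2 x11A) (w2 X) := by
    intro k
    have h2 := congrArg Prod.fst (inv_conj k)
    have h3 : orderOf (wd x11A) = orderOf (wd X) := h2
    rw [o11A, ho] at h3
    exact h h3.symm
  show (orderOf (wd X), fixN (wd X), _) = _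
  rw [ho, hf, if_neg h1]

theorem not_conj_inv : ¬ IsConj (w2 x11A) (w2 x11A)⁻¹ := by
  intro k
  obtain ⟨c, hc⟩ := isConj_iff.1 k
  exact nc11 c.2 (congrArg Subtype.val hc)

theorem fixN_inv {n : ℕ} (g : Perm (Fin n)) : fixN g⁻¹ = fixN g := by
  unfold fixN
  congr 1
  refine Finset.filter_congr fun i _ => ?_
  rw [Perm.inv_eq_iff_eq]
  exact eq_comm

/-- the list of the classes with the orders of the centralizers -/
noncomputable def L : List (↥M2 × ℕ) :=
  [(1, Nat.card ↥M2), (w2 x11A, 22), ((w2 x11A)⁻¹, 22), (w2 x2A, 80640), (w2 x3A, 58320), (w2 x3B, 1944), (w2 x4A, 192), (w2 x5A, 1500), (w2 x5B, 50), (w2 x6A, 720), (w2 x6B, 72), (w2 x7A, 14), (w2 x8A, 16), (w2 x9A, 27), (w2 x10A, 60), (w2 x12A, 24), (w2 x14A, 14), (w2 x15A, 30), (w2 x30A, 30)]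

def V : List (ℕ × ℕ × ℕ) := [(1, 275, 0), (11, 0, 1), (11, 0, 0), (2, 35, 0), (3, 5, 0), (3, 14, 0), (4, 7, 0), (5, 0, 0), (5, 5, 0), (6, 5, 0), (6, 2, 0), (7, 2, 0), (8, 1, 0), (9, 2, 0), (10, 0, 0), (12, 1, 0), (14, 0, 0), (15, 0, 0), (30, 0, 0)]

theorem L_inv : L.map (fun p => inv p.1) = V := by
  have h1 : inv 1 = (1, 275, 0) := inv_w2 (X := []) (by rw [wd_nil, orderOf_one]) (by rw [wd_nil]; exact fixN_eq_n.2 rfl)
    (by norm_num)
  have h2 : inv (w2 x11A) = (11, 0, 1) := by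
    show (orderOf (wd x11A), fixN (wd x11A), _) = _
    rw [o11A, f11A, if_pos (IsConj.refl _)]
  have h3 : inv (w2 x11A)⁻¹ = (11, 0, 0) := by
    show (orderOf (wd x11A)⁻¹, fixN (wd x11A)⁻¹, _) = _
    rw [orderOf_inv, fixN_inv, o11A, f11A, if_neg not_conj_inv]
  simp only [L, V, List.map_cons, List.map_nil, h1, h2, h3]
  rw [inv_w2 o2A f2A (by norm_num),
    inv_w2 o3A f3A (by norm_num),
    inv_w2 o3B f3B (by norm_num),
    inv_w2 o4A f4A (by norm_num),
    inv_w2 o5A f5A (by norm_num),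
    inv_w2 o5B f5B (by norm_num),
    inv_w2 o6A f6A (by norm_num),
    inv_w2 o6B f6B (by norm_num),
    inv_w2 o7A f7A (by norm_num),
    inv_w2 o8A f8A (by norm_num),
    inv_w2 o9A f9A (by norm_num),
    inv_w2 o10A f10A (by norm_num),
    inv_w2 o12A f12A (by norm_num),
    inv_w2 o14A f14A (by norm_num),
    inv_w2 o15A f15A (by norm_num),
    inv_w2 o30A f30A (by norm_num)]

theorem L_nodup : (L.map fun p => ConjClasses.mk p.1).Nodup := by
  apply List.Nodup.of_map invC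
  rw [List.map_map]
  have h : L.map (invC ∘ fun p => ConjClasses.mk p.1) = V := L_inv
  rw [h]
  decide

theorem L_cent : ∀ p ∈ L, Nat.card ↥(centralizer ({p.1} : Set ↥M2)) ≤ p.2 := by
  have h1 : Nat.card ↥(centralizer ({1} : Set ↥M2)) ≤ Nat.card ↥M2 :=
    Nat.le_of_dvd Nat.card_pos (Subgroup.card_subgroup_dvd_card _)
  have h2 : Nat.card ↥(centralizer ({(w2 x11A)⁻¹} : Set ↥M2)) ≤ 22 := by
    have e : centralizer ({(w2 x11A)⁻¹} : Set ↥M2) = centralizer ({w2 x11A} : Set ↥M2) := by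
      ext y
      rw [mem_centralizer_singleton_iff, mem_centralizer_singleton_iff]
      constructor
      · intro h
        have h3 := (show Commute y (w2 x11A)⁻¹ from h).inv_right.eq
        rwa [inv_inv] at h3
      · intro h
        exact (show Commute y (w2 x11A) from h).inv_right.eq
    rw [e]
    exact b11A
  intro p hp
  simp only [L, List.mem_cons, List.not_mem_nil, or_false] at hp
  rcases hp with rfl | rfl | rfl | rfl | rfl | rfl | rfl | rfl | rfl | rfl | rfl | rfl | rfl | rfl | rfl | rfl | rfl | rfl | rfl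
  · exact h1
  · exact b11A
  · exact h2
  · exact b2A
  · exact b3A
  · exact b3B
  · exact b4A
  · exact b5A
  · exact b5B
  · exact b6A
  · exact b6B
  · exact b7A
  · exact b8A
  · exact b9A
  · exact b10A
  · exact b12A
  · exact b14A
  · exact b15A
  · exact b30A

theorem L_mem : ∀ p ∈ L, p.1 ∈ K := by
  intro p hp
  simp only [L, List.mem_cons, List.not_mem_nil, or_false] at hp
  rcases hp with rfl | rfl | rfl | rfl | rfl | rfl | rfl | rfl | rfl | rfl | rfl | rfl | rfl | rfl | rfl | rfl | rfl | rfl | rfl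
  · exact one_mem _
  · exact w2_mem _
  · exact inv_mem (w2_mem _)
  · exact w2_mem _
  · exact w2_mem _
  · exact w2_mem _
  · exact w2_mem _
  · exact w2_mem _
  · exact w2_mem _
  · exact w2_mem _
  · exact w2_mem _
  · exact w2_mem _
  · exact w2_mem _
  · exact w2_mem _
  · exact w2_mem _
  · exact w2_mem _
  · exact w2_mem _
  · exact w2_mem _
  · exact w2_mem _

theorem classes {g : ↥M2} (hg : g ∈ K) : ∃ p ∈ L, IsConj p.1 g := by
  refine complete K L L_mem L_cent L_nodup ?_ hg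
  rw [card_K]
  simp only [L, List.map_cons, List.map_nil, List.sum_cons, List.sum_nil]
  rw [Nat.div_self Nat.card_pos]
  have h := fun b : ℕ => Nat.div_le_div_right (c := b) card_M2
  generalize Nat.card ↥M2 = N at h ⊢
  have h14 : 128304000 ≤ N / 14 := h 14
  have h16 : 112266000 ≤ N / 16 := h 16
  have h22 : 81648000 ≤ N / 22 := h 22
  have h24 : 74844000 ≤ N / 24 := h 24
  have h27 : 66528000 ≤ N / 27 := h 27
  have h30 : 59875200 ≤ N / 30 := h 30
  have h50 : 35925120 ≤ N / 50 := h 50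
  have h60 : 29937600 ≤ N / 60 := h 60
  have h72 : 24948000 ≤ N / 72 := h 72
  have h192 : 9355500 ≤ N / 192 := h 192
  have h720 : 2494800 ≤ N / 720 := h 720
  have h1500 : 1197504 ≤ N / 1500 := h 1500
  have h1944 : 924000 ≤ N / 1944 := h 1944
  have h58320 : 30800 ≤ N / 58320 := h 58320
  have h80640 : 22275 ≤ N / 80640 := h 80640
  generalize N / 14 = d14 at h14 ⊢
  generalize N / 16 = d16 at h16 ⊢
  generalize N / 22 = d22 at h22 ⊢
  generalize N / 24 = d24 at h24 ⊢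
  generalize N / 27 = d27 at h27 ⊢
  generalize N / 30 = d30 at h30 ⊢
  generalize N / 50 = d50 at h50 ⊢
  generalize N / 60 = d60 at h60 ⊢
  generalize N / 72 = d72 at h72 ⊢
  generalize N / 192 = d192 at h192 ⊢
  generalize N / 720 = d720 at h720 ⊢
  generalize N / 1500 = d1500 at h1500 ⊢
  generalize N / 1944 = d1944 at h1944 ⊢
  generalize N / 58320 = d58320 at h58320 ⊢
  generalize N / 80640 = d80640 at h80640 ⊢
  omega

/-- a word as an element of `K0` -/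
def wk (X : List ℕ) : ↥K0 := ⟨wd X, wd_mem X⟩

theorem wk_append (v w : List ℕ) : wk (v ++ w) = wk v * wk w := Subtype.ext (wd_append v w)
theorem wk_reverse (w : List ℕ) : wk w.reverse = (wk w)⁻¹ := Subtype.ext (wd_reverse w)
theorem wk_nil : wk [] = 1 := rfl
theorem wk_eq {X Y : List ℕ} (h : chkB X Y = true) : wk X = wk Y := Subtype.ext (eq_of_chkB h)

/-- conjugation by `M2` as an automorphism of `K0` -/
def cj (m : ↥M2) : ↥K0 →* ↥K0 :=
  ((MulAut.conj (m : Perm (Fin 275))).toMonoidHom.comp K0.subtype).codRestrict K0 fun g => conj_mem m.2 g.2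

/-- **Class invariant properties hold everywhere if they hold for the representatives.** -/
theorem all_model (P : ↥K0 → Prop) (hP : ∀ (φ : ↥K0 →* ↥K0), Function.Injective φ → ∀ g, P g → P (φ g)) (h1 : P 1)
    (hi : P (wk x11A) → P (wk x11A)⁻¹) (h2A : P (wk x2A)) (h3A : P (wk x3A)) (h3B : P (wk x3B)) (h4A : P (wk x4A)) (h5A : P (wk x5A)) (h5B : P (wk x5B)) (h6A : P (wk x6A)) (h6B : P (wk x6B)) (h7A : P (wk x7A)) (h8A : P (wk x8A)) (h9A : P (wk x9A)) (h10A : P (wk x10A)) (h11A : P (wk x11A)) (h12A : P (wk x12A)) (h14A : P (wk x14A)) (h15A : P (wk x15A)) (h30A : P (wk x30A)) (g : ↥K0) : P g := by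
  obtain ⟨p, hp, hpg⟩ := classes (g := ⟨g, K0_le_M2 g.2⟩) (by rw [K, mem_subgroupOf]; exact g.2)
  obtain ⟨c, hc⟩ := isConj_iff.1 hpg
  have key : ∀ y : ↥K0, (y : Perm (Fin 275)) = p.1 → P y → P g := by
    intro y hy hPy
    have e : cj c y = g := by
      apply Subtype.ext
      show (c : Perm (Fin 275)) * y * (c : Perm (Fin 275))⁻¹ = g
      rw [hy]
      exact congrArg Subtype.val hc
    rw [← e]
    refine hP (cj c) (fun a b hab => ?_) y hPy
    have e1 : (c : Perm (Fin 275)) * a * (c : Perm (Fin 275))⁻¹ = (c : Perm (Fin 275)) * b * (c : Perm (Fin 275))⁻¹ :=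
      congrArg Subtype.val hab
    rw [mul_left_inj, mul_right_inj] at e1
    exact Subtype.ext e1
  simp only [L, List.mem_cons, List.not_mem_nil, or_false] at hp
  rcases hp with rfl | rfl | rfl | rfl | rfl | rfl | rfl | rfl | rfl | rfl | rfl | rfl | rfl | rfl | rfl | rfl | rfl | rfl | rfl
  · exact key 1 rfl h1
  · exact key _ rfl h11A
  · exact key (wk x11A)⁻¹ rfl (hi h11A)
  · exact key _ rfl h2A
  · exact key _ rfl h3A
  · exact key _ rfl h3B
  · exact key _ rfl h4A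
  · exact key _ rfl h5A
  · exact key _ rfl h5B
  · exact key _ rfl h6A
  · exact key _ rfl h6B
  · exact key _ rfl h7A
  · exact key _ rfl h8A
  · exact key _ rfl h9A
  · exact key _ rfl h10A
  · exact key _ rfl h12A
  · exact key _ rfl h14A
  · exact key _ rfl h15A
  · exact key _ rfl h30A

/-! ### Witnesses -/

theorem isC_of {X A B : List ℕ} (h : chkB X (A ++ (B ++ (A.reverse ++ B.reverse))) = true) : IsC (wk X) := by
  have h1 := wk_eq h
  rw [wk_append, wk_append, wk_append, wk_reverse, wk_reverse] at h1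
  exact ⟨wk A, wk B, by rw [h1]; group⟩

theorem sq_of {S : List ℕ} (h : chkB (S ++ S) [] = true) : wk S * wk S = 1 := by
  have h1 := wk_eq h
  rwa [wk_append, wk_nil] at h1

theorem i4_of {X S T U V : List ℕ} (h : chkB X (S ++ (T ++ (U ++ V))) = true) (hS : chkB (S ++ S) [] = true)
    (hT : chkB (T ++ T) [] = true) (hU : chkB (U ++ U) [] = true) (hV : chkB (V ++ V) [] = true) : I4 (wk X) := by
  have h1 := wk_eq h
  rw [wk_append, wk_append, wk_append] at h1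
  exact ⟨wk S, wk T, wk U, wk V, sq_of hS, sq_of hT, sq_of hU, sq_of hV, by rw [h1, mul_assoc, mul_assoc]⟩

/-- the word is trivial after `k` repetitions -/
def pOk (X : List ℕ) (k : ℕ) : Bool := base.all fun b => Nat.beq (pw X k b) b

theorem pow_of {X : List ℕ} {k : ℕ} (h : pOk X k = true) : wk X ^ k = 1 := by
  unfold pOk at h
  rw [List.all_eq_true] at h
  apply Subtype.ext
  show wd X ^ k = 1
  refine eq_one (pow_mem (K0_le (wd_mem X)) k) fun b hb => ?_
  have hlt : b < 275 := (show ∀ b ∈ base, b < 275 by decide) b hb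
  refine ⟨hlt, Fin.ext ?_⟩
  rw [← pv_pw X k ⟨b, hlt⟩]
  exact Nat.eq_of_beq_eq_true (h b hb)

theorem pr_of {X A : List ℕ} {n j k : ℕ} (hj : pOk A j = true) (hk : pOk (A.reverse ++ X) k = true) (cj : j.Coprime n)
    (ck : k.Coprime n) : Pr n (wk X) := by
  refine ⟨wk A, (wk A)⁻¹ * wk X, by group, Nat.Coprime.of_dvd_left (orderOf_dvd_of_pow_eq_one (pow_of hj)) cj, ?_⟩
  rw [← wk_reverse, ← wk_append]
  exact Nat.Coprime.of_dvd_left (orderOf_dvd_of_pow_eq_one (pow_of hk)) ck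

theorem pr_ord {X : List ℕ} {n o : ℕ} (h : orderOf (wd X) = o) (c : o.Coprime n) : Pr n (wk X) := by
  apply Pr.of_coprime
  rwa [← Subgroup.orderOf_coe, show ((wk X : ↥K0) : Perm (Fin 275)) = wd X from rfl, h]

theorem p2A_6 : Pr 6 (wk x2A) := pr_of (A := [5, 6]) (j := 5) (k := 5) (by decide +kernel)
  (by decide +kernel) (by norm_num) (by norm_num)
theorem c2A : IsC (wk x2A) := isC_of (A := [1, 0, 1])
  (B := [4]) (by decide +kernel)
theorem i2A : I4 (wk x2A) := i4_of (S := [0]) (T := [])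
  (U := []) (V := []) (by decide +kernel) (by decide +kernel)
  (by decide +kernel) (by decide +kernel) (by decide +kernel)
theorem p3A_6 : Pr 6 (wk x3A) := pr_of (A := [0, 2, 5, 6]) (j := 5) (k := 5) (by decide +kernel)
  (by decide +kernel) (by norm_num) (by norm_num)
theorem c3A : IsC (wk x3A) := isC_of (A := [3, 5])
  (B := [2, 0]) (by decide +kernel)
theorem i3A : I4 (wk x3A) := i4_of (S := [1, 2, 0, 5, 1, 5, 3, 5, 1, 5, 0, 2, 1]) (T := [1, 2, 0, 6, 5, 4, 2, 4, 5, 6, 0, 2, 1])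
  (U := [1, 2, 0, 1, 6, 5, 6, 5, 6, 1, 0, 2, 1]) (V := []) (by decide +kernel) (by decide +kernel)
  (by decide +kernel) (by decide +kernel) (by decide +kernel)
theorem p3B_6 : Pr 6 (wk x3B) := pr_of (A := [3, 6]) (j := 5) (k := 5) (by decide +kernel)
  (by decide +kernel) (by norm_num) (by norm_num)
theorem c3B : IsC (wk x3B) := isC_of (A := [3])
  (B := [0]) (by decide +kernel)
theorem i3B : I4 (wk x3B) := i4_of (S := [0]) (T := [3])
  (U := []) (V := []) (by decide +kernel) (by decide +kernel)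
  (by decide +kernel) (by decide +kernel) (by decide +kernel)
theorem p4A_6 : Pr 6 (wk x4A) := pr_of (A := [6, 5]) (j := 5) (k := 5) (by decide +kernel)
  (by decide +kernel) (by norm_num) (by norm_num)
theorem c4A : IsC (wk x4A) := isC_of (A := [3, 6])
  (B := [0]) (by decide +kernel)
theorem i4A : I4 (wk x4A) := i4_of (S := [0]) (T := [1])
  (U := []) (V := []) (by decide +kernel) (by decide +kernel)
  (by decide +kernel) (by decide +kernel) (by decide +kernel)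
theorem p5A_5 : Pr 5 (wk x5A) := pr_of (A := [0, 5]) (j := 4) (k := 3) (by decide +kernel)
  (by decide +kernel) (by norm_num) (by norm_num)
theorem c5A : IsC (wk x5A) := isC_of (A := [5, 1, 2, 3, 4])
  (B := [0, 2, 4, 3, 1]) (by decide +kernel)
theorem i5A : I4 (wk x5A) := i4_of (S := [1, 2, 0, 1, 2, 5, 2, 1, 0, 2, 1]) (T := [1, 2, 0, 1, 2, 5, 4, 3, 6, 1, 6, 3, 4, 5, 2, 1, 0, 2, 1])
  (U := [1, 2, 0, 1, 2, 5, 6, 5, 3, 5, 6, 5, 2, 1, 0, 2, 1]) (V := []) (by decide +kernel) (by decide +kernel)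
  (by decide +kernel) (by decide +kernel) (by decide +kernel)
theorem p5B_5 : Pr 5 (wk x5B) := pr_of (A := [3]) (j := 2) (k := 2) (by decide +kernel)
  (by decide +kernel) (by norm_num) (by norm_num)
theorem c5B : IsC (wk x5B) := isC_of (A := [6])
  (B := [3, 6, 3]) (by decide +kernel)
theorem i5B : I4 (wk x5B) := i4_of (S := [3]) (T := [6])
  (U := []) (V := []) (by decide +kernel) (by decide +kernel)
  (by decide +kernel) (by decide +kernel) (by decide +kernel)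
theorem p6A_6 : Pr 6 (wk x6A) := pr_of (A := [6, 3]) (j := 5) (k := 5) (by decide +kernel)
  (by decide +kernel) (by norm_num) (by norm_num)
theorem c6A : IsC (wk x6A) := isC_of (A := [3, 5])
  (B := [2, 5, 0]) (by decide +kernel)
theorem i6A : I4 (wk x6A) := i4_of (S := [0, 2, 1, 3, 1, 2, 0]) (T := [0, 2, 1, 6, 2, 5, 6, 5, 2, 6, 1, 2, 0])
  (U := [0, 2, 1, 2, 1, 6, 2, 5, 2, 6, 1, 2, 1, 2, 0]) (V := []) (by decide +kernel) (by decide +kernel)
  (by decide +kernel) (by decide +kernel) (by decide +kernel)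
theorem p6B_6 : Pr 6 (wk x6B) := pr_of (A := [3, 6]) (j := 5) (k := 5) (by decide +kernel)
  (by decide +kernel) (by norm_num) (by norm_num)
theorem c6B : IsC (wk x6B) := isC_of (A := [3, 4])
  (B := [0, 1, 2, 1]) (by decide +kernel)
theorem i6B : I4 (wk x6B) := i4_of (S := [6, 1, 2, 0, 3, 6, 1, 6, 3, 0, 2, 1, 6]) (T := [6, 1, 3, 6, 3, 1, 6])
  (U := []) (V := []) (by decide +kernel) (by decide +kernel)
  (by decide +kernel) (by decide +kernel) (by decide +kernel)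
theorem p7A_7 : Pr 7 (wk x7A) := pr_of (A := [0]) (j := 2) (k := 3) (by decide +kernel)
  (by decide +kernel) (by norm_num) (by norm_num)
theorem c7A : IsC (wk x7A) := isC_of (A := [4, 3])
  (B := [4, 0, 1, 0]) (by decide +kernel)
theorem i7A : I4 (wk x7A) := i4_of (S := [4, 0, 4]) (T := [3, 4, 3])
  (U := [4, 1, 4]) (V := []) (by decide +kernel) (by decide +kernel)
  (by decide +kernel) (by decide +kernel) (by decide +kernel)
theorem p8A_6 : Pr 6 (wk x8A) := pr_of (A := [5, 6]) (j := 5) (k := 5) (by decide +kernel)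
  (by decide +kernel) (by norm_num) (by norm_num)
theorem c8A : IsC (wk x8A) := isC_of (A := [1, 5, 6])
  (B := [0, 1, 2, 1]) (by decide +kernel)
theorem i8A : I4 (wk x8A) := i4_of (S := [0]) (T := [1])
  (U := [2]) (V := []) (by decide +kernel) (by decide +kernel)
  (by decide +kernel) (by decide +kernel) (by decide +kernel)
theorem p9A_6 : Pr 6 (wk x9A) := pr_of (A := [0, 6, 5]) (j := 5) (k := 5) (by decide +kernel)
  (by decide +kernel) (by norm_num) (by norm_num)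
theorem c9A : IsC (wk x9A) := isC_of (A := [5, 4, 1, 0, 5, 4, 5, 1, 0, 1, 4, 5])
  (B := [5, 4, 1, 6, 3, 4, 5, 0, 1, 4, 5]) (by decide +kernel)
theorem i9A : I4 (wk x9A) := i4_of (S := [0]) (T := [6, 3, 6])
  (U := [5]) (V := []) (by decide +kernel) (by decide +kernel)
  (by decide +kernel) (by decide +kernel) (by decide +kernel)
theorem p10A_6 : Pr 6 (wk x10A) := pr_of (A := [6, 5, 0]) (j := 5) (k := 5) (by decide +kernel)
  (by decide +kernel) (by norm_num) (by norm_num)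
theorem p10A_5 : Pr 5 (wk x10A) := pr_of (A := [3, 4, 3, 5]) (j := 4) (k := 2) (by decide +kernel)
  (by decide +kernel) (by norm_num) (by norm_num)
theorem c10A : IsC (wk x10A) := isC_of (A := [1, 2, 3, 4, 5, 4, 1, 6, 4, 3, 2, 1])
  (B := [1, 2, 3, 4, 6, 3, 5, 4, 3, 2, 1]) (by decide +kernel)
theorem i10A : I4 (wk x10A) := i4_of (S := [3, 4, 3]) (T := [5])
  (U := [6]) (V := []) (by decide +kernel) (by decide +kernel)
  (by decide +kernel) (by decide +kernel) (by decide +kernel)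
theorem p11A_11 : Pr 11 (wk x11A) := pr_of (A := [4, 6]) (j := 3) (k := 4) (by decide +kernel)
  (by decide +kernel) (by norm_num) (by norm_num)
theorem c11A : IsC (wk x11A) := isC_of (A := [2, 1, 2, 6, 3, 5, 1, 6, 5, 6, 2, 1, 2])
  (B := [2, 1, 2, 5, 4, 1, 6, 2, 1, 2]) (by decide +kernel)
theorem i11A : I4 (wk x11A) := i4_of (S := [0, 1, 0, 3, 0, 1, 0]) (T := [6, 4, 3, 4, 6])
  (U := [0, 1, 5, 1, 0]) (V := []) (by decide +kernel) (by decide +kernel)
  (by decide +kernel) (by decide +kernel) (by decide +kernel)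
theorem p12A_6 : Pr 6 (wk x12A) := pr_of (A := [6, 3]) (j := 5) (k := 5) (by decide +kernel)
  (by decide +kernel) (by norm_num) (by norm_num)
theorem c12A : IsC (wk x12A) := isC_of (A := [3, 0, 3, 6, 5, 6, 3])
  (B := [3, 0, 5, 3]) (by decide +kernel)
theorem i12A : I4 (wk x12A) := i4_of (S := [1, 5, 6, 1, 3, 1, 6, 5, 1]) (T := [1, 5, 1])
  (U := [3, 0, 6, 0, 3]) (V := []) (by decide +kernel) (by decide +kernel)
  (by decide +kernel) (by decide +kernel) (by decide +kernel)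
theorem p14A_6 : Pr 6 (wk x14A) := pr_of (A := [1, 6, 5]) (j := 5) (k := 5) (by decide +kernel)
  (by decide +kernel) (by norm_num) (by norm_num)
theorem p14A_7 : Pr 7 (wk x14A) := pr_of (A := [2, 4]) (j := 2) (k := 5) (by decide +kernel)
  (by decide +kernel) (by norm_num) (by norm_num)
theorem c14A : IsC (wk x14A) := isC_of (A := [4, 5, 4, 6, 4])
  (B := [6, 2, 1, 4]) (by decide +kernel)
theorem i14A : I4 (wk x14A) := i4_of (S := [5, 4, 5, 3, 2, 3, 5, 4, 5]) (T := [5])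
  (U := [6]) (V := []) (by decide +kernel) (by decide +kernel)
  (by decide +kernel) (by decide +kernel) (by decide +kernel)
theorem p15A_6 : Pr 6 (wk x15A) := pr_of (A := [0, 3, 6, 1, 6]) (j := 5) (k := 5) (by decide +kernel)
  (by decide +kernel) (by norm_num) (by norm_num)
theorem p15A_5 : Pr 5 (wk x15A) := pr_of (A := [0, 3, 6]) (j := 4) (k := 4) (by decide +kernel)
  (by decide +kernel) (by norm_num) (by norm_num)
theorem c15A : IsC (wk x15A) := isC_of (A := [0, 5, 6, 4, 3, 6, 5, 0])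
  (B := [0, 5, 6, 4, 6, 3, 5, 1, 4, 6, 5, 0]) (by decide +kernel)
theorem i15A : I4 (wk x15A) := i4_of (S := [0, 5, 3, 5, 0]) (T := [0, 5, 1, 4, 1, 5, 0])
  (U := [0, 5, 1, 0, 6, 4, 5, 4, 6, 0, 1, 5, 0]) (V := []) (by decide +kernel) (by decide +kernel)
  (by decide +kernel) (by decide +kernel) (by decide +kernel)
theorem p30A_6 : Pr 6 (wk x30A) := pr_of (A := [2, 5, 6]) (j := 5) (k := 5) (by decide +kernel)
  (by decide +kernel) (by norm_num) (by norm_num)
theorem p30A_5 : Pr 5 (wk x30A) := pr_of (A := [2, 5]) (j := 3) (k := 4) (by decide +kernel)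
  (by decide +kernel) (by norm_num) (by norm_num)
theorem c30A : IsC (wk x30A) := isC_of (A := [2, 3, 5, 3, 1, 3, 2])
  (B := [2, 3, 4, 6, 2, 5]) (by decide +kernel)
theorem i30A : I4 (wk x30A) := i4_of (S := [0, 3, 6, 5, 1, 6, 5, 6, 1, 5, 6, 3, 0]) (T := [0, 3, 6, 5, 1, 3, 4, 5, 4, 3, 1, 5, 6, 3, 0])
  (U := [0, 3, 6, 5, 1, 6, 0, 2, 0, 6, 1, 5, 6, 3, 0]) (V := []) (by decide +kernel) (by decide +kernel)
  (by decide +kernel) (by decide +kernel) (by decide +kernel)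

theorem ore_model : AllC ↥K0 :=
  all_model IsC (fun φ _ _ h => h.map φ) isC_one (fun h => h.inv) c2A c3A c3B c4A c5A c5B c6A c6B c7A c8A c9A c10A c11A c12A c14A c15A c30A

theorem I4.map' {G H : Type*} [Group G] [Group H] (φ : G →* H) {g : G} (h : I4 g) : I4 (φ g) := by
  obtain ⟨a, b, c, d, ha, hb, hc, hd, rfl⟩ := h
  refine ⟨φ a, φ b, φ c, φ d, ?_, ?_, ?_, ?_, by rw [map_mul, map_mul, map_mul]⟩
  · rw [← map_mul, ha, map_one]
  · rw [← map_mul, hb, map_one]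
  · rw [← map_mul, hc, map_one]
  · rw [← map_mul, hd, map_one]

theorem I4.inv' {G : Type*} [Group G] {g : G} (h : I4 g) : I4 g⁻¹ := by
  obtain ⟨a, b, c, d, ha, hb, hc, hd, rfl⟩ := h
  refine ⟨d, c, b, a, hd, hc, hb, ha, ?_⟩
  rw [mul_inv_rev, mul_inv_rev, mul_inv_rev, inv_eq_of_mul_eq_one_left ha, inv_eq_of_mul_eq_one_left hb,
    inv_eq_of_mul_eq_one_left hc, inv_eq_of_mul_eq_one_left hd, mul_assoc, mul_assoc]

theorem four_model : Inv4 ↥K0 :=
  all_model I4 (fun φ _ _ h => I4.map' φ h) ⟨1, 1, 1, 1, mul_one 1, mul_one 1, mul_one 1, mul_one 1, by simp⟩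
    (fun h => I4.inv' h) i2A i3A i3B i4A i5A i5B i6A i6B i7A i8A i9A i10A i11A i12A i14A i15A i30A

theorem pw6_model : All 6 ↥K0 :=
  all_model (Pr 6) (fun φ _ _ h => h.map φ) (Pr.one 6) (fun h => h.inv) p2A_6 p3A_6 p3B_6 p4A_6 (pr_ord o5A (by norm_num)) (pr_ord o5B (by norm_num)) p6A_6 p6B_6 (pr_ord o7A (by norm_num)) p8A_6 p9A_6 p10A_6 (pr_ord o11A (by norm_num)) p12A_6 p14A_6 p15A_6 p30A_6
theorem pw5_model : All 5 ↥K0 :=
  all_model (Pr 5) (fun φ _ _ h => h.map φ) (Pr.one 5) (fun h => h.inv) (pr_ord o2A (by norm_num)) (pr_ord o3A (by norm_num)) (pr_ord o3B (by norm_num)) (pr_ord o4A (by norm_num)) p5A_5 p5B_5 (pr_ord o6A (by norm_num)) (pr_ord o6B (by norm_num)) (pr_ord o7A (by norm_num)) (pr_ord o8A (by norm_num)) (pr_ord o9A (by norm_num)) p10A_5 (pr_ord o11A (by norm_num)) (pr_ord o12A (by norm_num)) (pr_ord o14A (by norm_num)) p15A_5 p30A_5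
theorem pw7_model : All 7 ↥K0 :=
  all_model (Pr 7) (fun φ _ _ h => h.map φ) (Pr.one 7) (fun h => h.inv) (pr_ord o2A (by norm_num)) (pr_ord o3A (by norm_num)) (pr_ord o3B (by norm_num)) (pr_ord o4A (by norm_num)) (pr_ord o5A (by norm_num)) (pr_ord o5B (by norm_num)) (pr_ord o6A (by norm_num)) (pr_ord o6B (by norm_num)) p7A_7 (pr_ord o8A (by norm_num)) (pr_ord o9A (by norm_num)) (pr_ord o10A (by norm_num)) (pr_ord o11A (by norm_num)) (pr_ord o12A (by norm_num)) p14A_7 (pr_ord o15A (by norm_num)) (pr_ord o30A (by norm_num))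
theorem pw11_model : All 11 ↥K0 :=
  all_model (Pr 11) (fun φ _ _ h => h.map φ) (Pr.one 11) (fun h => h.inv) (pr_ord o2A (by norm_num)) (pr_ord o3A (by norm_num)) (pr_ord o3B (by norm_num)) (pr_ord o4A (by norm_num)) (pr_ord o5A (by norm_num)) (pr_ord o5B (by norm_num)) (pr_ord o6A (by norm_num)) (pr_ord o6B (by norm_num)) (pr_ord o7A (by norm_num)) (pr_ord o8A (by norm_num)) (pr_ord o9A (by norm_num)) (pr_ord o10A (by norm_num)) p11A_11 (pr_ord o12A (by norm_num)) (pr_ord o14A (by norm_num)) (pr_ord o15A (by norm_num)) (pr_ord o30A (by norm_num))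

theorem pw_model : Pw ↥K0 := by
  refine ⟨pw6_model, fun p hp h5 => ?_⟩
  by_cases h : p ∣ 898128000
  · have h1 : p = 5 ∨ p = 7 ∨ p = 11 := by
      rw [show 898128000 = 2 ^ 7 * (3 ^ 6 * (5 ^ 3 * (7 * 11))) by norm_num, hp.dvd_mul, hp.dvd_mul, hp.dvd_mul,
        hp.dvd_mul] at h
      rcases h with h | h | h | h | h
      · have := (Nat.prime_dvd_prime_iff_eq hp (by norm_num)).1 (hp.dvd_of_dvd_pow h); omega
      · have := (Nat.prime_dvd_prime_iff_eq hp (by norm_num)).1 (hp.dvd_of_dvd_pow h); omega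
      · have := (Nat.prime_dvd_prime_iff_eq hp (by norm_num)).1 (hp.dvd_of_dvd_pow h); omega
      · have := (Nat.prime_dvd_prime_iff_eq hp (by norm_num)).1 h; omega
      · have := (Nat.prime_dvd_prime_iff_eq hp (by norm_num)).1 h; omega
    rcases h1 with rfl | rfl | rfl
    · exact pw5_model
    · exact pw7_model
    · exact pw11_model
  · intro g
    apply Pr.of_coprime
    refine Nat.Coprime.of_dvd_left (orderOf_dvd_natCard g) ?_
    rw [card_K0]
    exact ((Nat.Prime.coprime_iff_not_dvd hp).2 h).symm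

theorem exists_iso {S : Type u} [Group S] (h : Cfsg.Spor.IsoMcL S) : Nonempty (↥K0 ≃* S) := by
  obtain ⟨e⟩ := h
  obtain ⟨f⟩ := isoK0
  exact ⟨f.trans e.symm⟩

/-- **Ore's conjecture for `McL`** -/
theorem ore_McL {S : Type u} [Group S] (h : Cfsg.Spor.IsoMcL S) : AllC S := by
  obtain ⟨e⟩ := exists_iso h
  exact AllC.congr e ore_model

/-- **four involutions in `McL`** -/
theorem four_McL {S : Type u} [Group S] (h : Cfsg.Spor.IsoMcL S) : Inv4 S := by
  obtain ⟨e⟩ := exists_iso h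
  intro g
  have h1 := I4.map' e.toMonoidHom (four_model (e.symm g))
  have h2 : e.toMonoidHom (e.symm g) = g := e.apply_symm_apply g
  rwa [h2] at h1

/-- **products of two elements of order prime to `6` or `p` in `McL`** -/
theorem pw_McL {S : Type u} [Group S] (h : Cfsg.Spor.IsoMcL S) : Pw S := by
  obtain ⟨e⟩ := exists_iso h
  exact ⟨All.congr e pw_model.1, fun p hp h5 => All.congr e (pw_model.2 p hp h5)⟩

end Cfsg.Agent.H235.Ore.McL
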