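import Mathlib

/-!
# Exact upper bounds for centralizers in groups of permutations preserving a colouring; complete class lists (helper235)

`le_of_run` : a subgroup of `Perm (Fin n)` which preserves `R` and commutes with `x` has order at most the product of
the numbers of candidates. Tests of a point `y`: colours of `(f, y)` for fixed points `f`, colours of `(y, x ^ k y)`,
and numbers of points `z` with `R y z = 1` satisfying such tests.

`complete` : class lists of a normal subgroup by counting.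
-/

set_option autoImplicit false

namespace Cfsg.Agent.H235.Ore.Eng

open Subgroup Equiv

/-! ### Counting -/

/-- the number of `k < n` with `P k` -/
def cnt (n : ℕ) (P : ℕ → Bool) : ℕ := Nat.rec 0 (fun k ih => bif P k then Nat.succ ih else ih) n

/-- the list of the `k < n` with `P k`, in decreasing order -/
def filt (n : ℕ) (P : ℕ → Bool) : List ℕ := Nat.rec [] (fun k ih => bif P k then k :: ih else ih) n

theorem cnt_succ (n : ℕ) (P : ℕ → Bool) : cnt (n + 1) P = bif P n then Nat.succ (cnt n P) else cnt n P := rfl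

theorem filt_succ (n : ℕ) (P : ℕ → Bool) : filt (n + 1) P = bif P n then n :: filt n P else filt n P := rfl

theorem card_filter (n : ℕ) (P : ℕ → Bool) : ((Finset.range n).filter (fun y => P y = true)).card = cnt n P := by
  induction n with
  | zero => rfl
  | succ k ih =>
    rw [Finset.range_add_one, Finset.filter_insert, cnt_succ]
    rcases hP : P k with _ | _
    · rw [if_neg (by simp), cond_false, ih]
    · rw [if_pos rfl, cond_true, Finset.card_insert_of_notMem (by simp), ih]

theorem cnt_fin (n : ℕ) (P : ℕ → Bool) : cnt n P = (Finset.univ.filter fun z : Fin n => P z = true).card := by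
  rw [← card_filter, ← Finset.card_map Fin.valEmbedding]
  congr 1
  ext y
  simp only [Finset.mem_filter, Finset.mem_range, Finset.mem_map, Finset.mem_univ, true_and, Fin.valEmbedding_apply]
  constructor
  · rintro ⟨h1, h2⟩
    exact ⟨⟨y, h1⟩, h2, rfl⟩
  · rintro ⟨z, h1, rfl⟩
    exact ⟨z.2, h1⟩

theorem cnt_perm {n : ℕ} (c : Perm (Fin n)) {P Q : ℕ → Bool} (h : ∀ z : Fin n, P (c z) = Q z) : cnt n Q = cnt n P := by
  rw [cnt_fin, cnt_fin]
  refine Finset.card_bij (fun z _ => c z) (fun z hz => ?_) (fun a _ b _ e => c.injective e) fun z hz => ?_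
  · rw [Finset.mem_filter] at hz ⊢
    exact ⟨Finset.mem_univ _, by rw [h]; exact hz.2⟩
  · rw [Finset.mem_filter] at hz
    refine ⟨c.symm z, ?_, c.apply_symm_apply z⟩
    rw [Finset.mem_filter]
    refine ⟨Finset.mem_univ _, ?_⟩
    rw [← h, c.apply_symm_apply]
    exact hz.2

/-- membership -/
def elemN (a : ℕ) (l : List ℕ) : Bool := l.any fun b => Nat.beq a b

theorem of_elemN {a : ℕ} {l : List ℕ} (h : elemN a l = true) : a ∈ l := by
  unfold elemN at h
  rw [List.any_eq_true] at h
  obtain ⟨b, hb, e⟩ := h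
  rw [Nat.eq_of_beq_eq_true e]
  exact hb

/-- equality of lists -/
def beqL : List ℕ → List ℕ → Bool
  | [], [] => true
  | a :: l, b :: m => and (Nat.beq a b) (beqL l m)
  | _, _ => false

theorem eq_of_beqL : ∀ {l m : List ℕ}, beqL l m = true → l = m
  | [], [], _ => rfl
  | a :: l, b :: m, h => by
    rw [beqL, Bool.and_eq_true] at h
    rw [Nat.eq_of_beq_eq_true h.1, eq_of_beqL h.2]
  | [], _ :: _, h => by simp [beqL] at h
  | _ :: _, [], h => by simp [beqL] at h

theorem all_congr' {α : Type*} {p q : α → Bool} : ∀ {l : List α}, (∀ a ∈ l, p a = q a) → l.all p = l.all q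
  | [], _ => rfl
  | a :: l, h => by
    rw [List.all_cons, List.all_cons, h a List.mem_cons_self, all_congr' fun b hb => h b (List.mem_cons_of_mem _ hb)]

/-! ### Certificates -/

/-- a count: tests of the points `z`, the list of the points `z` satisfying the tests, the number of neighbours -/
structure Ct where
  fs : List (ℕ × ℕ)
  ks : List (ℕ × ℕ)
  Z : List ℕ
  v : ℕ

/-- a level: point, tests `R f y = v`, tests `R y (x ^ k y) = v`, counts, number of candidates -/
structure Lv where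
  p : ℕ
  fs : List (ℕ × ℕ)
  ks : List (ℕ × ℕ)
  cs : List Ct
  n : ℕ

/-- the bound -/
def bd : List Lv → ℕ
  | [] => 1
  | s :: l => s.n * bd l

section

variable (n : ℕ) (R : ℕ → ℕ → ℕ) (pv : ℕ → ℕ → ℕ)

/-- the tests of a point `y` -/
def tt (fs ks : List (ℕ × ℕ)) (y : ℕ) : Bool :=
  and (fs.all fun f => Nat.beq (R f.1 y) f.2) (ks.all fun k => Nat.beq (R y (pv k.1 y)) k.2)

/-- the number of neighbours of `y` in `Z` -/
def cz (y : ℕ) (Z : List ℕ) : ℕ := Z.foldr (fun z a => bif Nat.beq (R y z) 1 then Nat.succ a else a) 0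

/-- the candidates -/
def cand (s : Lv) (y : ℕ) : Bool := and (tt R pv s.fs s.ks y) (s.cs.all fun t => Nat.beq (cz R y t.Z) t.v)

/-- the level is correct -/
def vOk (F : List ℕ) (s : Lv) : Bool :=
  and (Nat.blt s.p n) (and (s.fs.all fun f => elemN f.1 F) (and (s.cs.all fun t => and (t.fs.all fun f => elemN f.1 F)
    (beqL (filt n (tt R pv t.fs t.ks)) t.Z)) (cand R pv s s.p)))

/-- the points fixed after the level `p` -/
def nx (m : ℕ) (F : List ℕ) (p : ℕ) : List ℕ := (List.range m).map (fun k => pv k p) ++ F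

/-- the check -/
def run (m : ℕ) (base : List ℕ) : List Lv → List ℕ → Bool
  | [], F => base.all fun b => elemN b F
  | s :: l, F => and (and (vOk n R pv F s) (Nat.beq (cnt n (cand R pv s)) s.n)) (run m base l (nx pv m F s.p))

end

variable {n : ℕ} {R : ℕ → ℕ → ℕ} {pv : ℕ → ℕ → ℕ} {x : Perm (Fin n)}

/-- `c` preserves the colours and commutes with `x` -/
structure Good (R : ℕ → ℕ → ℕ) (x c : Perm (Fin n)) : Prop where
  inv : ∀ i j : Fin n, R (c i) (c j) = R i j
  comm : c * x = x * c

/-- `c` fixes `f` -/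
def Fx (c : Perm (Fin n)) (f : ℕ) : Prop := ∃ h : f < n, c ⟨f, h⟩ = ⟨f, h⟩

/-- `pv k` is the `k`-th power of `x` -/
def Pv (x : Perm (Fin n)) (pv : ℕ → ℕ → ℕ) : Prop := ∀ (k : ℕ) (i : Fin n), pv k i = ((x ^ k) i : Fin n)

theorem Good.pow {c : Perm (Fin n)} (h : Good R x c) (hp : Pv x pv) (k : ℕ) (i : Fin n) :
    pv k (c i) = (c ((x ^ k) i) : Fin n) := by
  rw [hp, ← Perm.mul_apply, ← Perm.mul_apply, ((show Commute c x from h.comm).pow_right k).eq]

theorem tt_inv {c : Perm (Fin n)} (h : Good R x c) (hp : Pv x pv) {F : List ℕ} (hF : ∀ f ∈ F, Fx c f)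
    {fs ks : List (ℕ × ℕ)} (hfs : (fs.all fun f => elemN f.1 F) = true) (y : Fin n) :
    tt R pv fs ks (c y) = tt R pv fs ks y := by
  unfold tt
  rw [List.all_eq_true] at hfs
  congr 1
  · refine all_congr' fun f hf => ?_
    obtain ⟨hlt, hfx⟩ := hF f.1 (of_elemN (hfs f hf))
    have h2 := h.inv ⟨f.1, hlt⟩ y
    rw [hfx] at h2
    have h3 : R f.1 (c y) = R f.1 y := h2
    rw [h3]
  · refine all_congr' fun k _ => ?_
    rw [h.pow hp, h.inv, ← hp]

theorem cz_filt (P : ℕ → Bool) (y : ℕ) (m : ℕ) :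
    cz R y (filt m P) = cnt m fun z => and (P z) (Nat.beq (R y z) 1) := by
  induction m with
  | zero => rfl
  | succ m ih =>
    rw [filt_succ, cnt_succ]
    rcases hP : P m with _ | _
    · rw [cond_false, ih]; rfl
    · rw [cond_true, ← ih]; rfl

theorem cz_inv {c : Perm (Fin n)} (h : Good R x c) (hp : Pv x pv) {F : List ℕ} (hF : ∀ f ∈ F, Fx c f)
    {t : Ct} (ht : and (t.fs.all fun f => elemN f.1 F) (beqL (filt n (tt R pv t.fs t.ks)) t.Z) = true) (y : Fin n) :
    cz R (c y) t.Z = cz R y t.Z := by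
  rw [Bool.and_eq_true] at ht
  rw [← eq_of_beqL ht.2, cz_filt, cz_filt]
  symm
  refine cnt_perm c fun z => ?_
  rw [tt_inv h hp hF ht.1, h.inv]

theorem cand_inv {c : Perm (Fin n)} (h : Good R x c) (hp : Pv x pv) {F : List ℕ} (hF : ∀ f ∈ F, Fx c f)
    {s : Lv} (hs : vOk n R pv F s = true) (y : Fin n) : cand R pv s (c y) = cand R pv s y := by
  unfold vOk at hs
  rw [Bool.and_eq_true, Bool.and_eq_true, Bool.and_eq_true] at hs
  obtain ⟨-, h1, h2, -⟩ := hs
  rw [List.all_eq_true] at h2
  unfold cand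
  rw [tt_inv h hp hF h1]
  congr 1
  exact all_congr' fun t ht => by rw [cz_inv h hp hF (h2 t ht)]

theorem pv_comm (_h : Pv x pv) {c : Perm (Fin n)} (hc : Good R x c) {p : Fin n} (hp : c p = p) (k : ℕ) :
    c ((x ^ k) p) = (x ^ k) p := by
  rw [← Perm.mul_apply, ((show Commute c x from hc.comm).pow_right k).eq, Perm.mul_apply, hp]

theorem fx_nx {m : ℕ} {c : Perm (Fin n)} (h : Good R x c) (hpv : Pv x pv) {F : List ℕ}
    (hF : ∀ f ∈ F, Fx c f) {p : Fin n} (hp : c p = p) : ∀ f ∈ nx pv m F p, Fx c f := by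
  intro f hf
  rcases List.mem_append.1 hf with hm | hm
  · obtain ⟨k, -, rfl⟩ := List.mem_map.1 hm
    refine ⟨by rw [hpv]; exact ((x ^ k) p).2, ?_⟩
    have e : (⟨pv k p, by rw [hpv]; exact ((x ^ k) p).2⟩ : Fin n) = (x ^ k) p := Fin.ext (hpv _ _)
    rw [e, pv_comm hpv h hp]
  · exact hF f hm

/-- the stabilizer of a point -/
def st (C : Subgroup (Perm (Fin n))) (p : Fin n) : Subgroup (Perm (Fin n)) where
  carrier := {c | c ∈ C ∧ c p = p}
  one_mem' := ⟨one_mem _, rfl⟩
  mul_mem' := fun {a b} ha hb => ⟨mul_mem ha.1 hb.1, by rw [Perm.mul_apply, hb.2, ha.2]⟩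
  inv_mem' := fun {a} ha => ⟨inv_mem ha.1, by rw [Perm.inv_eq_iff_eq, ha.2]⟩

theorem mem_st {C : Subgroup (Perm (Fin n))} {p : Fin n} {c : Perm (Fin n)} : c ∈ st C p ↔ c ∈ C ∧ c p = p := Iff.rfl

theorem orb (C : Subgroup (Perm (Fin n))) (p : Fin n) (S : Finset ℕ) (hS : ∀ c ∈ C, (c p : ℕ) ∈ S) {m : ℕ}
    (hm : Nat.card ↥(st C p) ≤ m) : Nat.card C ≤ S.card * m := by
  have h2 : MulAction.stabilizer C p = (st C p).subgroupOf C := by
    ext c
    rw [MulAction.mem_stabilizer_iff, Subgroup.mem_subgroupOf, mem_st]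
    exact ⟨fun h => ⟨c.2, h⟩, fun h => h.2⟩
  have h3 : Nat.card (MulAction.stabilizer C p) = Nat.card ↥(st C p) := by
    rw [h2]
    exact Nat.card_congr (Subgroup.subgroupOfEquivOfLe fun c hc => (mem_st.1 hc).1).toEquiv
  have h1 := (MulAction.stabilizer C p).card_mul_index
  rw [MulAction.index_stabilizer, h3] at h1
  have h4 : (MulAction.orbit C p).ncard = ((fun y : Fin n => (y : ℕ)) '' MulAction.orbit C p).ncard :=
    (Set.ncard_image_of_injective _ fun y z h => Fin.ext h).symm
  have h5 : (MulAction.orbit C p).ncard ≤ S.card := by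
    rw [h4, ← Set.ncard_coe_finset]
    apply Set.ncard_le_ncard _ S.finite_toSet
    rintro _ ⟨_, ⟨g, rfl⟩, rfl⟩
    exact hS g g.2
  rw [← h1, mul_comm]
  exact Nat.mul_le_mul h5 hm

/-- **The bound.** -/
theorem le_of_run {m : ℕ} {base : List ℕ} (hpv : Pv x pv) : ∀ (l : List Lv) (F : List ℕ) (C : Subgroup (Perm (Fin n))),
    (∀ c ∈ C, Good R x c) → (∀ c ∈ C, (∀ b ∈ base, Fx c b) → c = 1) → (∀ c ∈ C, ∀ f ∈ F, Fx c f) →
      run n R pv m base l F = true → Nat.card C ≤ bd l
  | [], F, C, hC, hb, hF, h => by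
    have h1 : (base.all fun b => elemN b F) = true := h
    rw [List.all_eq_true] at h1
    show Nat.card C ≤ 1
    rw [Subgroup.card_le_one_iff_eq_bot, eq_bot_iff_forall]
    intro c hc
    exact hb c hc fun b hbm => hF c hc b (of_elemN (h1 b hbm))
  | s :: l, F, C, hC, hb, hF, h => by
    have h1 : and (and (vOk n R pv F s) (Nat.beq (cnt n (cand R pv s)) s.n)) (run n R pv m base l (nx pv m F s.p))
      = true := h
    rw [Bool.and_eq_true, Bool.and_eq_true] at h1
    obtain ⟨⟨hv, hn⟩, h2⟩ := h1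
    have hv' := hv
    unfold vOk at hv'
    rw [Bool.and_eq_true, Bool.and_eq_true, Bool.and_eq_true, Nat.blt_eq] at hv'
    obtain ⟨hp, -, -, hcp⟩ := hv'
    show Nat.card C ≤ s.n * bd l
    rw [← Nat.eq_of_beq_eq_true hn, ← card_filter]
    apply orb C ⟨s.p, hp⟩
    · intro c hc
      rw [Finset.mem_filter, Finset.mem_range]
      exact ⟨(c _).2, (cand_inv (hC c hc) hpv (hF c hc) hv ⟨s.p, hp⟩).trans hcp⟩
    · refine le_of_run hpv l (nx pv m F s.p) _ (fun c hc => hC c (mem_st.1 hc).1)
        (fun c hc => hb c (mem_st.1 hc).1) (fun c hc => ?_) h2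
      exact fx_nx (p := ⟨s.p, hp⟩) (hC c (mem_st.1 hc).1) hpv (hF c (mem_st.1 hc).1) (mem_st.1 hc).2

/-! ### A universal base -/

/-- `y` is the only point with its colours to the points `fs` -/
def uOk (n : ℕ) (R : ℕ → ℕ → ℕ) (fs : List ℕ) (y : ℕ) : Bool :=
  Nat.beq (cnt n fun z => fs.all fun f => Nat.beq (R f z) (R f y)) 1

/-- the chain of unique points -/
def uRun (n : ℕ) (R : ℕ → ℕ → ℕ) : List (ℕ × List ℕ) → List ℕ → List ℕ → Bool
  | [], D, F => D.all fun d => elemN d F
  | s :: l, D, F => and (and (Nat.blt s.1 n) (and (s.2.all fun f => elemN f F) (uOk n R s.2 s.1))) (uRun n R l D (s.1 :: F))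

theorem eq_of_uOk {fs : List ℕ} {y : Fin n} (h : uOk n R fs y = true) {z : Fin n}
    (hz : ∀ f ∈ fs, R f z = R f y) : z = y := by
  have h1 := Nat.eq_of_beq_eq_true h
  rw [cnt_fin, Finset.card_eq_one] at h1
  obtain ⟨a, ha⟩ := h1
  have m1 : z ∈ (Finset.univ.filter fun z : Fin n => (fs.all fun f => Nat.beq (R f z) (R f y)) = true) := by
    rw [Finset.mem_filter, List.all_eq_true]
    exact ⟨Finset.mem_univ _, fun f hf => by rw [hz f hf]; exact Nat.beq_refl _⟩
  have m2 : y ∈ (Finset.univ.filter fun z : Fin n => (fs.all fun f => Nat.beq (R f z) (R f y)) = true) := by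
    rw [Finset.mem_filter, List.all_eq_true]
    exact ⟨Finset.mem_univ _, fun f hf => Nat.beq_refl _⟩
  rw [ha, Finset.mem_singleton] at m1 m2
  rw [m1, m2]

theorem fx_of_uRun {c : Perm (Fin n)} (hc : ∀ i j : Fin n, R (c i) (c j) = R i j) {D : List ℕ} :
    ∀ (l : List (ℕ × List ℕ)) (F : List ℕ), (∀ f ∈ F, Fx c f) → uRun n R l D F = true → ∀ d ∈ D, Fx c d
  | [], F, hF, h => by
    have h1 : (D.all fun d => elemN d F) = true := h
    rw [List.all_eq_true] at h1
    exact fun d hd => hF d (of_elemN (h1 d hd))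
  | s :: l, F, hF, h => by
    have h1 : and (and (Nat.blt s.1 n) (and (s.2.all fun f => elemN f F) (uOk n R s.2 s.1))) (uRun n R l D (s.1 :: F))
      = true := h
    rw [Bool.and_eq_true, Bool.and_eq_true, Bool.and_eq_true, Nat.blt_eq, List.all_eq_true] at h1
    obtain ⟨⟨hp, hf, hu⟩, h2⟩ := h1
    refine fx_of_uRun hc l _ (fun f hfm => ?_) h2
    rcases List.mem_cons.1 hfm with rfl | hfm
    · refine ⟨hp, eq_of_uOk (y := ⟨s.1, hp⟩) hu fun f hff => ?_⟩
      obtain ⟨hlt, hfx⟩ := hF f (of_elemN (hf f hff))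
      have h3 := hc ⟨f, hlt⟩ ⟨s.1, hp⟩
      rw [hfx] at h3
      exact h3
    · exact hF f hfm

/-- the code of a point -/
def code (R : ℕ → ℕ → ℕ) (D : List ℕ) (y : ℕ) : ℕ := D.foldr (fun d a => Nat.add (Nat.mul 3 a) (R d y)) 0

theorem code_congr {D : List ℕ} {y z : ℕ} (h : ∀ d ∈ D, R d y = R d z) : code R D y = code R D z := by
  induction D with
  | nil => rfl
  | cons d D ih =>
    show Nat.add (Nat.mul 3 (code R D y)) (R d y) = Nat.add (Nat.mul 3 (code R D z)) (R d z)
    rw [h d List.mem_cons_self, ih fun d hd => h d (List.mem_cons_of_mem _ hd)]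

/-- all entries are different -/
def nodupB : List ℕ → Bool
  | [] => true
  | a :: l => and (bif elemN a l then false else true) (nodupB l)

theorem nodup_of_nodupB : ∀ {l : List ℕ}, nodupB l = true → l.Nodup
  | [], _ => List.nodup_nil
  | a :: l, h => by
    rw [nodupB, Bool.and_eq_true] at h
    refine List.nodup_cons.2 ⟨fun ha => ?_, nodup_of_nodupB h.2⟩
    have h1 : elemN a l = true := by
      unfold elemN
      rw [List.any_eq_true]
      exact ⟨a, ha, Nat.beq_refl a⟩
    have h2 := h.1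
    rw [h1] at h2
    exact absurd h2 (by decide)

theorem eq_one_of_base {c : Perm (Fin n)} (hc : ∀ i j : Fin n, R (c i) (c j) = R i j) {D base lit : List ℕ}
    {l : List (ℕ × List ℕ)} (hu : uRun n R l D base = true) (hb : ∀ b ∈ base, Fx c b)
    (he : (List.range n).map (code R D) = lit) (hl : nodupB lit = true) : c = 1 := by
  have hD := fx_of_uRun hc l base hb hu
  refine Equiv.ext fun y => ?_
  have h1 : code R D (c y) = code R D y := by
    refine code_congr fun d hd => ?_
    obtain ⟨hlt, hfx⟩ := hD d hd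
    have h3 := hc ⟨d, hlt⟩ y
    rw [hfx] at h3
    exact h3
  have h2 : lit.Nodup := nodup_of_nodupB hl
  rw [← he, List.nodup_map_iff_inj_on List.nodup_range] at h2
  exact Fin.ext (h2 _ (List.mem_range.2 (c y).2) _ (List.mem_range.2 y.2) h1)

/-! ### Orders and fixed points -/

/-- the order of `x` is `N` -/
def oOk (n : ℕ) (pv : ℕ → ℕ → ℕ) (N : ℕ) (ps : List ℕ) : Bool :=
  and (Nat.beq (cnt n fun i => Nat.beq (pv N i) i) n) (ps.all fun p => Nat.blt (cnt n fun i => Nat.beq (pv (N / p) i) i) n)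

/-- the number of fixed points -/
def fixN (g : Perm (Fin n)) : ℕ := (Finset.univ.filter fun i : Fin n => g i = i).card

theorem fixN_pow (hpv : Pv x pv) (k : ℕ) : fixN (x ^ k) = cnt n fun i => Nat.beq (pv k i) i := by
  rw [cnt_fin, fixN]
  congr 1
  refine Finset.filter_congr fun i _ => ?_
  rw [hpv]
  constructor
  · intro h
    rw [h]
    exact Nat.beq_refl _
  · intro h
    exact Fin.ext (Nat.eq_of_beq_eq_true h)

theorem fixN_conj (c g : Perm (Fin n)) : fixN (c * g * c⁻¹) = fixN g := by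
  unfold fixN
  symm
  refine Finset.card_bij (fun z _ => c z) (fun z hz => ?_) (fun a _ b _ e => c.injective e) fun z hz => ?_
  · rw [Finset.mem_filter] at hz ⊢
    refine ⟨Finset.mem_univ _, ?_⟩
    have e : c⁻¹ (c z) = z := c.symm_apply_apply z
    rw [Perm.mul_apply, Perm.mul_apply, e, hz.2]
  · rw [Finset.mem_filter] at hz
    refine ⟨c⁻¹ z, ?_, c.apply_symm_apply z⟩
    rw [Finset.mem_filter]
    refine ⟨Finset.mem_univ _, ?_⟩
    have h := hz.2
    rw [Perm.mul_apply, Perm.mul_apply] at h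
    rw [Perm.eq_inv_iff_eq]
    exact h

theorem fixN_eq_n {g : Perm (Fin n)} : fixN g = n ↔ g = 1 := by
  unfold fixN
  constructor
  · intro h
    refine Equiv.ext fun i => ?_
    have h1 : (Finset.univ.filter fun i : Fin n => g i = i) = Finset.univ := by
      apply Finset.eq_univ_of_card
      rw [h, Fintype.card_fin]
    have h2 : i ∈ (Finset.univ.filter fun i : Fin n => g i = i) := by rw [h1]; exact Finset.mem_univ i
    rw [Finset.mem_filter] at h2
    exact h2.2
  · rintro rfl
    simp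

theorem orderOf_eq (hpv : Pv x pv) {N : ℕ} {ps : List ℕ} (hps : ∀ p ∈ ps, p.Prime) (hd : N ∣ ps.prod ^ 6)
    (h : oOk n pv N ps = true) (hN : 0 < N) : orderOf x = N := by
  unfold oOk at h
  rw [Bool.and_eq_true, List.all_eq_true] at h
  apply orderOf_eq_of_pow_and_pow_div_prime hN
  · rw [← fixN_eq_n, fixN_pow hpv]
    exact Nat.eq_of_beq_eq_true h.1
  · intro p hp hpd hx
    have h1 : p ∣ ps.prod := hp.dvd_of_dvd_pow (hpd.trans hd)
    obtain ⟨q, hq, hpq⟩ := (hp.prime.dvd_prod_iff).1 h1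
    rw [(Nat.prime_dvd_prime_iff_eq hp (hps q hq)).1 hpq] at hx
    have h2 := h.2 q hq
    rw [Nat.blt_eq, ← fixN_pow hpv, fixN_eq_n.2 hx] at h2
    exact absurd h2 (lt_irrefl _)

/-! ### Class lists of a normal subgroup -/

section Classes

variable {G : Type*} [Group G] [Finite G]

omit [Finite G] in
theorem card_class (x : G) : Nat.card {y : G // IsConj x y} * Nat.card ↥(centralizer ({x} : Set G)) = Nat.card G := by
  have h1 : Nat.card {y : G // IsConj x y} = Nat.card (MulAction.orbit (ConjAct G) x) := by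
    refine Nat.card_congr (Equiv.subtypeEquivRight fun y => ?_)
    rw [ConjAct.mem_orbit_conjAct]
    exact ⟨fun h => h.symm, fun h => h.symm⟩
  have h2 : Nat.card ↥(centralizer ({x} : Set G)) = Nat.card (MulAction.stabilizer (ConjAct G) x) := by
    rw [ConjAct.stabilizer_eq_centralizer]
    rfl
  have h3 := Nat.card_congr (MulAction.orbitProdStabilizerEquivGroup (ConjAct G) x)
  rw [Nat.card_prod] at h3
  rw [h1, h2, h3]
  rfl

theorem card_union [Fintype G] [DecidableEq G] (L : List (G × ℕ)) : (∀ p ∈ L, Nat.card ↥(centralizer ({p.1} : Set G)) ≤ p.2) →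
    (L.map fun p => ConjClasses.mk p.1).Nodup →
    ∃ U : Finset G, (∀ y, y ∈ U ↔ ∃ p ∈ L, IsConj p.1 y) ∧ (L.map fun p => Nat.card G / p.2).sum ≤ U.card := by
  classical
  induction L with
  | nil => intro _ _; exact ⟨∅, fun y => by simp, by simp⟩
  | cons q L ih =>
    intro hc hd
    rw [List.map_cons, List.nodup_cons] at hd
    obtain ⟨U, hU, h1⟩ := ih (fun p hp => hc p (List.mem_cons_of_mem _ hp)) hd.2
    have hdis : Disjoint (Finset.univ.filter fun y : G => IsConj q.1 y) U := by
      rw [Finset.disjoint_left]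
      intro y hy hy'
      rw [Finset.mem_filter] at hy
      obtain ⟨p, hp, hpy⟩ := (hU y).1 hy'
      exact hd.1 (List.mem_map.2 ⟨p, hp, ConjClasses.mk_eq_mk_iff_isConj.2 (hpy.trans hy.2.symm)⟩)
    refine ⟨(Finset.univ.filter fun y : G => IsConj q.1 y) ∪ U, fun y => ?_, ?_⟩
    · simp only [Finset.mem_filter, Finset.mem_univ, true_and, Finset.mem_union, List.mem_cons, exists_eq_or_imp, hU]
    have hq : Nat.card G / q.2 ≤ (Finset.univ.filter fun y : G => IsConj q.1 y).card := by
      have h2 := card_class q.1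
      have h3 : Nat.card {y : G // IsConj q.1 y} = (Finset.univ.filter fun y : G => IsConj q.1 y).card := by
        rw [Nat.card_eq_fintype_card, Fintype.card_subtype]
      rw [← h3]
      have h4 := hc q List.mem_cons_self
      have h5 : 0 < q.2 := lt_of_lt_of_le Nat.card_pos h4
      apply Nat.div_le_of_le_mul
      rw [← h2, mul_comm q.2]
      exact Nat.mul_le_mul_left _ h4
    rw [List.map_cons, List.sum_cons, Finset.card_union_of_disjoint hdis]
    exact Nat.add_le_add hq h1

/-- **The class list criterion**, for a normal subgroup. -/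
theorem complete (N : Subgroup G) [hN : N.Normal] (L : List (G × ℕ)) (hL : ∀ p ∈ L, p.1 ∈ N)
    (hc : ∀ p ∈ L, Nat.card ↥(centralizer ({p.1} : Set G)) ≤ p.2) (hd : (L.map fun p => ConjClasses.mk p.1).Nodup)
    (hs : Nat.card N ≤ (L.map fun p => Nat.card G / p.2).sum) {g : G} (hg : g ∈ N) : ∃ p ∈ L, IsConj p.1 g := by
  classical
  have := Fintype.ofFinite G
  obtain ⟨U, hU, h1⟩ := card_union L hc hd
  have h2 : U = Finset.univ.filter fun y => y ∈ N := by
    apply Finset.eq_of_subset_of_card_le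
    · intro y hy
      obtain ⟨p, hp, hpy⟩ := (hU y).1 hy
      rw [Finset.mem_filter]
      refine ⟨Finset.mem_univ _, ?_⟩
      obtain ⟨c, rfl⟩ := isConj_iff.1 hpy
      exact hN.conj_mem _ (hL p hp) c
    · refine le_trans (le_of_eq ?_) (hs.trans h1)
      rw [← Fintype.card_subtype, ← Nat.card_eq_fintype_card]
  rw [← hU, h2, Finset.mem_filter]
  exact ⟨Finset.mem_univ _, hg⟩

end Classes

end Cfsg.Agent.H235.Ore.Eng
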