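import Cfsg.Agent.H235.Ore.HeEng

/-!
# Centralizers in the Held group: certificates (helper235)
-/

set_option autoImplicit false
set_option maxRecDepth 100000

namespace Cfsg.Agent.H235.Ore.HeCert

open Subgroup
open Cfsg.Spor Cfsg.Spor.He Cfsg.Agent.SporadicB.HePerm
open Cfsg.Agent.FixBN.HeStab Cfsg.Agent.KFacts.He.Lv Cfsg.Agent.CpAutHe.Cnt Cfsg.Agent.H235.Ore.HeEng

/-- `run1` from its parts (memory of the kernel: one theorem for each part) -/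
theorem run1_of {m : ℕ} {X : List Gen} {s : Lv} {kl : List Kl} {dead : List ℕ} {l : List Lv} (j : ℕ)
    (h0 : (kl.take j).all (klOk X s.p) = true) (h1 : (kl.drop j).all (klOk X s.p) = true)
    (h2 : (vOk X [] s && dead.all fun d => kl.any fun k => (List.range m).any fun j =>
      Nat.beq (act (pw X j) k.y) d) = true)
    (h3 : Nat.beq (cnt 2058 fun y => bif tt X s.fs s.ks y then (bif elemN y dead then false else true) else false)
      s.n = true)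
    (h4 : run m X l (nxm m X [] s.p) = true) : run1 m X s kl dead l = true := by
  have h5 : kl.all (klOk X s.p) = true := by
    rw [← List.take_append_drop j kl, List.all_append, h0, h1]
    rfl
  rw [Bool.and_eq_true] at h2
  unfold run1
  rw [h2.1, h5, h2.2, h3, h4]
  rfl

def x4A : List Gen := [.a, .b]
def s4A : Lv := ⟨1831, [], [(2, 0), (1, 2)], 14⟩
def k4A : List Kl := [⟨1504, 1344, [(1, 1512, 3)], [(2, 1)]⟩,
  ⟨1505, 1350, [(1, 1513, 3)], [(2, 1)]⟩,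
  ⟨1506, 1505, [(0, 1506, 4), (1, 1507, 4)], [(2, 0), (1, 2)]⟩,
  ⟨1533, 951, [(0, 1533, 3)], [(2, 1)]⟩,
  ⟨1638, 502, [(1, 1742, 4), (0, 1638, 2)], [(1, 2)]⟩,
  ⟨1639, 1338, [(0, 1639, 3)], [(2, 1)]⟩,
  ⟨1640, 498, [(0, 1640, 4), (1, 2022, 2)], [(1, 2)]⟩]
def d4A : List ℕ := [1504, 1505, 1506, 1507, 1512, 1513, 1533, 1555, 1638, 1639, 1640, 1742, 1747, 2022]
def l4A : List Lv := [⟨389, [(1831, 3), (1829, 2)], [], 16⟩,
  ⟨2048, [(1831, 4), (983, 4), (389, 3), (258, 1)], [], 3⟩,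
  ⟨0, [(983, 4), (389, 2)], [(2, 0), (1, 1)], 1⟩,
  ⟨32, [(1854, 3), (1831, 2), (258, 2), (982, 1), (1829, 2)], [(2, 2)], 1⟩,
  ⟨8, [(200, 3), (32, 2), (1854, 2)], [(1, 2)], 1⟩]
theorem r4Aa : (k4A.take 4).all (klOk x4A s4A.p) = true := by decide +kernel
theorem r4Ab : (k4A.drop 4).all (klOk x4A s4A.p) = true := by decide +kernel
theorem r4Ac : (vOk x4A [] s4A && d4A.all fun d => k4A.any fun k => (List.range 4).any fun j =>
    Nat.beq (act (pw x4A j) k.y) d) = true := by decide +kernel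
theorem r4Ad : Nat.beq (cnt 2058 fun y => bif tt x4A s4A.fs s4A.ks y then
    (bif elemN y d4A then false else true) else false) s4A.n = true := by decide +kernel
theorem r4Ae : run 4 x4A l4A (nxm 4 x4A [] s4A.p) = true := by decide +kernel
theorem r4A : run1 4 x4A s4A k4A d4A l4A = true := run1_of 4 r4Aa r4Ab r4Ac r4Ad r4Ae
/-- `4A` -/
theorem b4A : Nat.card ↥(centralizer ({wd x4A} : Set Cfsg.Spor.He)) ≤ 672 := (card_le1 r4A).trans (by decide)

def x7A : List Gen := [.d, .f, .g]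
def s7A : Lv := ⟨126, [], [(2, 4)], 588⟩
def k7A : List Kl := []
def d7A : List ℕ := []
def l7A : List Lv := [⟨1503, [(126, 4), (510, 4), (676, 2)], [(1, 2)], 2⟩,
  ⟨0, [(124, 4), (77, 2), (672, 2)], [(1, 2)], 1⟩,
  ⟨1, [(1503, 3), (676, 2), (124, 2)], [], 1⟩,
  ⟨32, [(18, 3), (141, 4), (510, 2)], [], 1⟩,
  ⟨8, [(126, 3), (25, 3), (176, 4)], [], 1⟩]
theorem r7A : run1 7 x7A s7A k7A d7A l7A = true := by decide +kernel
/-- `7A` -/
theorem b7A : Nat.card ↥(centralizer ({wd x7A} : Set Cfsg.Spor.He)) ≤ 1176 := (card_le1 r7A).trans (by decide)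

def x7D : List Gen := [.c, .d, .e, .f, .c, .b, .d, .g]
def s7D : Lv := ⟨1968, [], [(1, 3)], 49⟩
def k7D : List Kl := [⟨98, 1491, [(6, 547, 3), (3, 808, 2), (4, 1421, 2), (1, 336, 1), (0, 98, 1)], [(2, 1)]⟩,
  ⟨170, 1370, [(5, 1336, 3), (3, 1778, 2), (1, 1383, 1)], [(3, 3)]⟩,
  ⟨196, 1193, [(3, 523, 3), (2, 1812, 1), (0, 196, 1), (5, 1213, 4)], [(2, 4), (1, 1)]⟩,
  ⟨379, 1299, [(2, 466, 3), (5, 1359, 3), (1, 1526, 1)], [(2, 4)]⟩,
  ⟨432, 1650, [(2, 1100, 3), (5, 470, 3)], [(3, 2)]⟩,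
  ⟨453, 1683, [(4, 1964, 4), (5, 2037, 3), (6, 721, 1)], [(3, 2)]⟩,
  ⟨527, 1971, [(1, 607, 3), (4, 1489, 3), (0, 527, 1)], [(2, 4)]⟩]
def d7D : List ℕ := [98, 170, 196, 240, 336, 346, 370, 379, 432, 453, 466, 470, 501, 523, 527, 547, 549, 602, 607, 719, 721, 773, 795, 808, 822, 889, 968, 1066, 1100, 1105, 1174, 1213, 1296, 1336, 1359, 1383, 1421, 1489, 1526, 1534, 1626, 1741, 1778, 1782, 1812, 1924, 1964, 1967, 2037]
def l7D : List Lv := [⟨355, [(1471, 4), (1968, 1), (1980, 1)], [(1, 3)], 2⟩,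
  ⟨0, [(1968, 4), (355, 4), (1980, 1)], [(2, 2)], 1⟩,
  ⟨1, [(1980, 4), (725, 2), (16, 2)], [(2, 4)], 1⟩,
  ⟨32, [(1471, 3), (777, 2), (911, 2), (1968, 2)], [], 1⟩,
  ⟨8, [(355, 4), (304, 3), (18, 3)], [], 1⟩]
theorem r7Da : (k7D.take 4).all (klOk x7D s7D.p) = true := by decide +kernel
theorem r7Db : (k7D.drop 4).all (klOk x7D s7D.p) = true := by decide +kernel
theorem r7Dc : (vOk x7D [] s7D && d7D.all fun d => k7D.any fun k => (List.range 7).any fun j =>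
    Nat.beq (act (pw x7D j) k.y) d) = true := by decide +kernel
theorem r7Dd : Nat.beq (cnt 2058 fun y => bif tt x7D s7D.fs s7D.ks y then
    (bif elemN y d7D then false else true) else false) s7D.n = true := by decide +kernel
theorem r7De : run 7 x7D l7D (nxm 7 x7D [] s7D.p) = true := by decide +kernel
theorem r7D : run1 7 x7D s7D k7D d7D l7D = true := run1_of 4 r7Da r7Db r7Dc r7Dd r7De
/-- `7D` -/
theorem b7D : Nat.card ↥(centralizer ({wd x7D} : Set Cfsg.Spor.He)) ≤ 98 := (card_le1 r7D).trans (by decide)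

def x8A : List Gen := [.a, .b, .d, .c, .d, .g, .c, .b]
def s8A : Lv := ⟨26, [], [(2, 3), (1, 2), (3, 2)], 8⟩
def k8A : List Kl := [⟨18, 508, [(2, 183, 4), (3, 223, 4), (0, 18, 1)], [(1, 1), (2, 1), (3, 1)]⟩]
def d8A : List ℕ := [18, 83, 112, 183, 192, 223, 286, 329]
def l8A : List Lv := [⟨712, [(197, 3), (868, 3)], [(3, 4)], 2⟩,
  ⟨0, [(868, 3), (1067, 4), (883, 3)], [(1, 2)], 1⟩,
  ⟨1, [(883, 4), (766, 4), (798, 4)], [], 1⟩,
  ⟨32, [(350, 3), (205, 2)], [(2, 2), (1, 2)], 1⟩,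
  ⟨8, [(26, 4), (774, 3), (168, 3)], [], 1⟩]
theorem r8A : run1 8 x8A s8A k8A d8A l8A = true := by decide +kernel
/-- `8A` -/
theorem b8A : Nat.card ↥(centralizer ({wd x8A} : Set Cfsg.Spor.He)) ≤ 16 := (card_le1 r8A).trans (by decide)

def x10A : List Gen := [.c, .d]
def s10A : Lv := ⟨29, [], [(1, 3), (4, 4)], 10⟩
def k10A : List Kl := []
def d10A : List ℕ := []
def l10A : List Lv := [⟨575, [(45, 4), (27, 2), (176, 3), (47, 2)], [], 2⟩,
  ⟨0, [(575, 2)], [(1, 0)], 1⟩,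
  ⟨1, [(45, 4), (0, 1)], [(5, 0), (1, 1)], 1⟩,
  ⟨32, [(27, 3), (2, 2)], [(5, 0), (1, 2)], 1⟩,
  ⟨8, [(176, 4), (1364, 2), (3, 2)], [], 1⟩]
theorem r10A : run1 10 x10A s10A k10A d10A l10A = true := by decide +kernel
/-- `10A` -/
theorem b10A : Nat.card ↥(centralizer ({wd x10A} : Set Cfsg.Spor.He)) ≤ 20 := (card_le1 r10A).trans (by decide)

def x12A : List Gen := [.b, .c, .f, .g]
def s12A : Lv := ⟨194, [], [(1, 3), (6, 2)], 12⟩
def k12A : List Kl := [⟨32, 900, [(0, 32, 3), (11, 238, 4), (10, 201, 1), (1, 120, 2)], [(5, 2)]⟩]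
def d12A : List ℕ := [32, 52, 54, 111, 120, 144, 180, 182, 196, 199, 201, 238]
def l12A : List Lv := [⟨0, [(370, 4)], [(6, 0), (1, 1)], 1⟩,
  ⟨32, [(242, 4), (194, 2), (332, 1)], [(1, 3)], 1⟩,
  ⟨8, [(188, 4), (332, 2)], [(3, 4)], 1⟩]
theorem r12A : run1 12 x12A s12A k12A d12A l12A = true := by decide +kernel
/-- `12A` -/
theorem b12A : Nat.card ↥(centralizer ({wd x12A} : Set Cfsg.Spor.He)) ≤ 12 := (card_le1 r12A).trans (by decide)

def x12B : List Gen := [.b, .c, .d]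
def s12B : Lv := ⟨1989, [], [(2, 3), (1, 1), (5, 1)], 12⟩
def k12B : List Kl := [⟨194, 611, [(0, 194, 4), (1, 329, 4), (4, 528, 4), (7, 1060, 4)], []⟩]
def d12B : List ℕ := [194, 196, 279, 303, 329, 528, 830, 977, 993, 1038, 1060, 1494]
def l12B : List Lv := [⟨0, [(1989, 4), (183, 2), (986, 2), (238, 1)], [(2, 1)], 1⟩,
  ⟨32, [(5, 4)], [(2, 3), (1, 4)], 1⟩]
theorem r12B : run1 12 x12B s12B k12B d12B l12B = true := by decide +kernel
/-- `12B` -/
theorem b12B : Nat.card ↥(centralizer ({wd x12B} : Set Cfsg.Spor.He)) ≤ 12 := (card_le1 r12B).trans (by decide)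

end Cfsg.Agent.H235.Ore.HeCert
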