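import Cfsg.Agent.H235.Ore.HeEng

/-!
# Centralizers in the Held group: certificates (helper235)
-/

set_option autoImplicit false
set_option maxRecDepth 100000

namespace Cfsg.Agent.H235.Ore.HeCert

open Subgroup
open Cfsg.Spor Cfsg.Spor.He Cfsg.Agent.SporadicB.HePerm
open Cfsg.Agent.FixBN.HeStab Cfsg.Agent.KFacts.He.Lv Cfsg.Agent.CpAutHe.Cnt Cfsg.Agent.H235.Ore.HeEng

def x6B : List Gen := [.a, .b, .c]
def s6B : Lv := ⟨343, [], [(3, 0), (1, 3)], 6⟩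
def k6B : List Kl := []
def d6B : List ℕ := []
def l6B : List Lv := [⟨1695, [(211, 4), (81, 1)], [(1, 3)], 4⟩,
  ⟨0, [(211, 4), (566, 2)], [(3, 0)], 1⟩,
  ⟨32, [(343, 4), (1695, 2), (566, 2)], [(1, 1)], 1⟩,
  ⟨8, [(1685, 4), (32, 2), (1737, 2)], [(1, 2)], 1⟩]
theorem r6B : run1 6 x6B s6B k6B d6B l6B = true := by decide +kernel
/-- `6B` -/
theorem b6B : Nat.card ↥(centralizer ({wd x6B} : Set Cfsg.Spor.He)) ≤ 24 := (card_le1 r6B).trans (by decide)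

def x14A : List Gen := [.a, .d, .f, .g]
def s14A : Lv := ⟨240, [], [(3, 3)], 28⟩
def k14A : List Kl := []
def d14A : List ℕ := []
def l14A : List Lv := [⟨1960, [(32, 3), (283, 2)], [(4, 4), (1, 1), (3, 1)], 2⟩,
  ⟨0, [(240, 4), (171, 4), (174, 1)], [(1, 2)], 1⟩,
  ⟨1, [(283, 3), (726, 3)], [(1, 2)], 1⟩,
  ⟨8, [(240, 4), (176, 4), (1872, 3)], [], 1⟩]
theorem r14A : run1 14 x14A s14A k14A d14A l14A = true := by decide +kernel
/-- `14A` -/
theorem b14A : Nat.card ↥(centralizer ({wd x14A} : Set Cfsg.Spor.He)) ≤ 56 := (card_le1 r14A).trans (by decide)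

def x14C : List Gen := [.b, .g, .d, .c, .f, .d, .f]
def s14C : Lv := ⟨92, [], [(1, 4), (2, 3)], 14⟩
def k14C : List Kl := [⟨83, 665, [(10, 1508, 3), (7, 1500, 2)], [(6, 2)]⟩]
def d14C : List ℕ := [83, 135, 293, 401, 451, 587, 847, 940, 1432, 1478, 1500, 1508, 1674, 1830]
def l14C : List Lv := [⟨0, [(1538, 3), (1974, 4), (326, 4)], [(1, 1)], 1⟩,
  ⟨1, [(1811, 4), (10, 2)], [(2, 3)], 1⟩,
  ⟨32, [(1894, 4), (781, 4), (113, 2)], [], 1⟩,
  ⟨8, [(693, 4), (1974, 4), (16, 3)], [], 1⟩]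
theorem r14C : run1 14 x14C s14C k14C d14C l14C = true := by decide +kernel
/-- `14C` -/
theorem b14C : Nat.card ↥(centralizer ({wd x14C} : Set Cfsg.Spor.He)) ≤ 14 := (card_le1 r14C).trans (by decide)

def x15A : List Gen := [.c, .g, .d, .g, .c, .b, .d]
def s15A : Lv := ⟨523, [], [(2, 3), (1, 2)], 15⟩
def k15A : List Kl := [⟨254, 1381, [(5, 1881, 4), (13, 1035, 4), (3, 1869, 2)], [(2, 1)]⟩]
def d15A : List ℕ := [254, 437, 497, 657, 769, 910, 930, 1035, 1139, 1326, 1465, 1720, 1869, 1881, 1927]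
def l15A : List Lv := [⟨0, [(1068, 4), (818, 3)], [(2, 2), (5, 1)], 1⟩,
  ⟨32, [(22, 3)], [(2, 3), (1, 1)], 1⟩,
  ⟨8, [(1341, 4), (1296, 4), (1347, 2)], [], 1⟩]
theorem r15A : run1 15 x15A s15A k15A d15A l15A = true := by decide +kernel
/-- `15A` -/
theorem b15A : Nat.card ↥(centralizer ({wd x15A} : Set Cfsg.Spor.He)) ≤ 15 := (card_le1 r15A).trans (by decide)

def x17A : List Gen := [.f, .b, .d, .c]
def s17A : Lv := ⟨432, [], [(2, 3), (1, 2)], 17⟩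
def k17A : List Kl := []
def d17A : List ℕ := []
def l17A : List Lv := [⟨0, [(1393, 3), (1946, 4)], [(5, 2)], 1⟩,
  ⟨32, [(1248, 4), (233, 4), (542, 4)], [], 1⟩,
  ⟨8, [(409, 3), (26, 4)], [(6, 2)], 1⟩]
theorem r17A : run1 17 x17A s17A k17A d17A l17A = true := by decide +kernel
/-- `17A` -/
theorem b17A : Nat.card ↥(centralizer ({wd x17A} : Set Cfsg.Spor.He)) ≤ 17 := (card_le1 r17A).trans (by decide)

def x21A : List Gen := [.a, .b, .c, .d]
def s21A : Lv := ⟨1440, [], [(1, 3), (2, 4)], 21⟩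
def k21A : List Kl := [⟨64, 1718, [(6, 1016, 3), (1, 803, 2)], [(2, 3)]⟩]
def d21A : List ℕ := [64, 123, 214, 228, 360, 791, 803, 809, 999, 1016, 1018, 1019, 1021, 1030, 1776, 1882, 1940, 1978, 1991, 1992, 2032]
def l21A : List Lv := [⟨0, [(1445, 2), (1238, 1), (386, 1)], [(7, 0), (3, 2)], 1⟩,
  ⟨32, [(538, 2), (1496, 2), (36, 2)], [(1, 4)], 1⟩,
  ⟨8, [(998, 3), (1238, 2)], [(7, 0)], 1⟩]
theorem r21A : run1 21 x21A s21A k21A d21A l21A = true := by decide +kernel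
/-- `21A` -/
theorem b21A : Nat.card ↥(centralizer ({wd x21A} : Set Cfsg.Spor.He)) ≤ 21 := (card_le1 r21A).trans (by decide)

def x21C : List Gen := [.b, .e, .d, .c, .f, .d, .c]
def s21C : Lv := ⟨1868, [], [(1, 4), (4, 2)], 21⟩
def k21C : List Kl := [⟨65, 14, [(2, 1004, 3), (8, 1154, 2)], [(2, 2), (3, 1)]⟩]
def d21C : List ℕ := [65, 224, 279, 356, 619, 689, 712, 723, 802, 805, 845, 1004, 1046, 1105, 1123, 1154, 1155, 1169, 1344, 1766, 1771]
def l21C : List Lv := [⟨0, [(1457, 3), (1034, 2), (1822, 2)], [(2, 2)], 1⟩,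
  ⟨32, [(1457, 3), (1077, 3)], [(1, 2)], 1⟩,
  ⟨8, [(1457, 3), (1125, 3), (865, 2)], [], 1⟩]
theorem r21C : run1 21 x21C s21C k21C d21C l21C = true := by decide +kernel
/-- `21C` -/
theorem b21C : Nat.card ↥(centralizer ({wd x21C} : Set Cfsg.Spor.He)) ≤ 21 := (card_le1 r21C).trans (by decide)

def x28A : List Gen := [.a, .b, .d, .f, .g]
def s28A : Lv := ⟨580, [], [(5, 4)], 28⟩
def k28A : List Kl := [⟨372, 1650, [(1, 1658, 4), (9, 1615, 4)], [(5, 4)]⟩]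
def d28A : List ℕ := [372, 462, 622, 647, 656, 831, 918, 1009, 1076, 1087, 1135, 1152, 1195, 1226, 1229, 1242, 1243, 1308, 1357, 1385, 1394, 1425, 1431, 1615, 1650, 1658, 1800, 1805]
def l28A : List Lv := [⟨0, [(818, 3), (1756, 3)], [(2, 2)], 1⟩,
  ⟨32, [(818, 3), (567, 3)], [(6, 4)], 1⟩,
  ⟨8, [(818, 3), (200, 3), (1528, 4)], [], 1⟩]
theorem r28A : run1 28 x28A s28A k28A d28A l28A = true := by decide +kernel
/-- `28A` -/
theorem b28A : Nat.card ↥(centralizer ({wd x28A} : Set Cfsg.Spor.He)) ≤ 28 := (card_le1 r28A).trans (by decide)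

end Cfsg.Agent.H235.Ore.HeCert
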