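import Cfsg.Agent.H235.Ore.HeEng

/-!
# Centralizers in the Held group: certificates (helper235)
-/

set_option autoImplicit false
set_option maxRecDepth 100000

namespace Cfsg.Agent.H235.Ore.HeCert

open Subgroup
open Cfsg.Spor Cfsg.Spor.He Cfsg.Agent.SporadicB.HePerm
open Cfsg.Agent.FixBN.HeStab Cfsg.Agent.KFacts.He.Lv Cfsg.Agent.CpAutHe.Cnt Cfsg.Agent.H235.Ore.HeEng

/-! ### The run in pieces (helper30) -/

/-- the checks of some levels -/
def pre (m : ℕ) (X : List Gen) : List Lv → List ℕ → Bool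
  | [], _ => true
  | s :: l, F => and (and (vOk X F s) (Nat.beq (cnt 2058 (tt X s.fs s.ks)) s.n)) (pre m X l (nxm m X F s.p))

/-- the points fixed after some levels -/
def fl (m : ℕ) (X : List Gen) : List Lv → List ℕ → List ℕ
  | [], F => F
  | s :: l, F => fl m X l (nxm m X F s.p)

theorem run_append {m : ℕ} {X : List Gen} : ∀ (l r : List Lv) (F : List ℕ), pre m X l F = true →
    run m X r (fl m X l F) = true → run m X (l ++ r) F = true
  | [], _, _, _, h => h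
  | s :: l, r, F, h1, h2 => by
    have h : and (and (vOk X F s) (Nat.beq (cnt 2058 (tt X s.fs s.ks)) s.n)) (pre m X l (nxm m X F s.p)) = true := h1
    rw [Bool.and_eq_true] at h
    show and (and (vOk X F s) (Nat.beq (cnt 2058 (tt X s.fs s.ks)) s.n)) (run m X (l ++ r) (nxm m X F s.p)) = true
    rw [Bool.and_eq_true]
    exact ⟨h.1, run_append l r _ h.2 h2⟩

theorem run_cut {m : ℕ} {X : List Gen} {l : List Lv} {F : List ℕ} (k : ℕ) (h1 : pre m X (l.take k) F = true)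
    (h2 : run m X (l.drop k) (fl m X (l.take k) F) = true) : run m X l F = true := by
  have h := run_append _ _ F h1 h2
  rwa [List.take_append_drop] at h

/-- the check of the first level -/
def st1 (m : ℕ) (X : List Gen) (s : Lv) (kl : List Kl) (dead : List ℕ) : Bool :=
  and (and (vOk X [] s) (and (kl.all (klOk X s.p))
    (dead.all fun d => kl.any fun k => (List.range m).any fun j => Nat.beq (act (pw X j) k.y) d)))
  (Nat.beq (cnt 2058 fun y => bif tt X s.fs s.ks y then (bif elemN y dead then false else true) else false) s.n)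

theorem run1_mk {m : ℕ} {X : List Gen} {s : Lv} {kl : List Kl} {dead : List ℕ} {l : List Lv}
    (h0 : st1 m X s kl dead = true) (h : run m X l (nxm m X [] s.p) = true) : run1 m X s kl dead l = true := by
  unfold st1 at h0
  rw [Bool.and_eq_true] at h0
  unfold run1
  rw [h0.1, h0.2, h]
  rfl

def x2A : List Gen := [.a]
def s2A : Lv := ⟨1571, [], [(1, 1)], 224⟩
def k2A : List Kl := []
def d2A : List ℕ := []
def l2A : List Lv := [⟨2055, [(1571, 3)], [(1, 1)], 10⟩,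
  ⟨1681, [(1571, 2), (2055, 2), (1580, 2)], [(1, 1)], 4⟩,
  ⟨1301, [(2055, 4), (1681, 4), (1571, 1)], [(1, 2)], 9⟩,
  ⟨509, [(1580, 4), (1324, 3), (1681, 4), (1571, 1)], [], 2⟩,
  ⟨0, [(2055, 4), (1301, 1), (509, 2)], [(1, 0)], 1⟩,
  ⟨1, [(509, 2), (1571, 2), (1681, 2), (1301, 1)], [(1, 0)], 1⟩,
  ⟨32, [(1301, 3), (1571, 2), (1681, 1)], [(1, 0)], 1⟩,
  ⟨8, [(2056, 4), (1681, 4), (32, 2), (1324, 2), (509, 2)], [], 1⟩]
theorem r2A_0 : st1 2 x2A s2A k2A d2A = true := by decide +kernel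
theorem r2A_1 : pre 2 x2A (List.take 2 l2A) (nxm 2 x2A [] s2A.p) = true := by
  decide +kernel
theorem r2A_2 : pre 2 x2A (List.take 2 (List.drop 2 l2A)) (fl 2 x2A (List.take 2 l2A) (nxm 2 x2A [] s2A.p)) = true := by
  decide +kernel
theorem r2A_3 : pre 2 x2A (List.take 2 (List.drop 2 (List.drop 2 l2A))) (fl 2 x2A (List.take 2 (List.drop 2 l2A)) (fl 2 x2A (List.take 2 l2A) (nxm 2 x2A [] s2A.p))) = true := by
  decide +kernel
theorem r2A_4 : run 2 x2A (List.drop 2 (List.drop 2 (List.drop 2 l2A))) (fl 2 x2A (List.take 2 (List.drop 2 (List.drop 2 l2A))) (fl 2 x2A (List.take 2 (List.drop 2 l2A)) (fl 2 x2A (List.take 2 l2A) (nxm 2 x2A [] s2A.p)))) = true := by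
  decide +kernel
theorem r2A : run1 2 x2A s2A k2A d2A l2A = true := run1_mk r2A_0 (run_cut 2 r2A_1 (run_cut 2 r2A_2 (run_cut 2 r2A_3 r2A_4)))
/-- `2A` -/
theorem b2A : Nat.card ↥(centralizer ({wd x2A} : Set Cfsg.Spor.He)) ≤ 161280 := (card_le1 r2A).trans (by decide)

def x2B : List Gen := [.d]
def s2B : Lv := ⟨65, [], [(1, 0)], 42⟩
def k2B : List Kl := []
def d2B : List ℕ := []
def l2B : List Lv := [⟨1555, [(65, 3)], [(1, 0)], 8⟩,
  ⟨873, [(65, 2), (1555, 2)], [(1, 0)], 2⟩,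
  ⟨901, [(873, 3), (65, 2), (1555, 2)], [], 4⟩,
  ⟨24, [(901, 3), (1555, 3)], [(1, 0)], 2⟩,
  ⟨116, [(65, 2), (24, 2), (901, 2), (873, 2), (1555, 1)], [], 2⟩,
  ⟨167, [(65, 3), (873, 3), (116, 3), (1555, 1)], [(1, 2)], 2⟩,
  ⟨0, [(65, 1), (1555, 1), (901, 1), (24, 1)], [(1, 0)], 1⟩,
  ⟨1, [(873, 3), (24, 1), (116, 1)], [(1, 0)], 1⟩,
  ⟨32, [(141, 4), (167, 2), (24, 2), (391, 1)], [(1, 2)], 1⟩,
  ⟨8, [(65, 4), (32, 2), (116, 4), (0, 2)], [], 1⟩]
theorem r2B_0 : st1 2 x2B s2B k2B d2B = true := by decide +kernel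
theorem r2B_1 : pre 2 x2B (List.take 3 l2B) (nxm 2 x2B [] s2B.p) = true := by
  decide +kernel
theorem r2B_2 : pre 2 x2B (List.take 3 (List.drop 3 l2B)) (fl 2 x2B (List.take 3 l2B) (nxm 2 x2B [] s2B.p)) = true := by
  decide +kernel
theorem r2B_3 : pre 2 x2B (List.take 2 (List.drop 3 (List.drop 3 l2B))) (fl 2 x2B (List.take 3 (List.drop 3 l2B)) (fl 2 x2B (List.take 3 l2B) (nxm 2 x2B [] s2B.p))) = true := by
  decide +kernel
theorem r2B_4 : run 2 x2B (List.drop 2 (List.drop 3 (List.drop 3 l2B))) (fl 2 x2B (List.take 2 (List.drop 3 (List.drop 3 l2B))) (fl 2 x2B (List.take 3 (List.drop 3 l2B)) (fl 2 x2B (List.take 3 l2B) (nxm 2 x2B [] s2B.p)))) = true := by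
  decide +kernel
theorem r2B : run1 2 x2B s2B k2B d2B l2B = true := run1_mk r2B_0 (run_cut 3 r2B_1 (run_cut 3 r2B_2 (run_cut 2 r2B_3 r2B_4)))
/-- `2B` -/
theorem b2B : Nat.card ↥(centralizer ({wd x2B} : Set Cfsg.Spor.He)) ≤ 21504 := (card_le1 r2B).trans (by decide)

def x3A : List Gen := [.d, .e]
def s3A : Lv := ⟨980, [], [(1, 1)], 756⟩
def k3A : List Kl := []
def d3A : List ℕ := []
def l3A : List Lv := [⟨455, [(980, 3), (964, 4), (992, 2)], [], 5⟩,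
  ⟨1885, [(992, 3), (980, 2), (1276, 4)], [(1, 1)], 2⟩,
  ⟨0, [(980, 4)], [(1, 0)], 1⟩,
  ⟨1, [(1885, 4)], [(1, 0)], 1⟩,
  ⟨32, [(1087, 4), (1276, 2), (1414, 2), (992, 2), (455, 1)], [(1, 2)], 1⟩,
  ⟨8, [(455, 2), (1414, 2), (1885, 2), (0, 2)], [(1, 2)], 1⟩]
theorem r3A_0 : st1 3 x3A s3A k3A d3A = true := by decide +kernel
theorem r3A_1 : pre 3 x3A (List.take 2 l3A) (nxm 3 x3A [] s3A.p) = true := by
  decide +kernel
theorem r3A_2 : pre 3 x3A (List.take 2 (List.drop 2 l3A)) (fl 3 x3A (List.take 2 l3A) (nxm 3 x3A [] s3A.p)) = true := by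
  decide +kernel
theorem r3A_3 : run 3 x3A (List.drop 2 (List.drop 2 l3A)) (fl 3 x3A (List.take 2 (List.drop 2 l3A)) (fl 3 x3A (List.take 2 l3A) (nxm 3 x3A [] s3A.p))) = true := by
  decide +kernel
theorem r3A : run1 3 x3A s3A k3A d3A l3A = true := run1_mk r3A_0 (run_cut 2 r3A_1 (run_cut 2 r3A_2 r3A_3))
/-- `3A` -/
theorem b3A : Nat.card ↥(centralizer ({wd x3A} : Set Cfsg.Spor.He)) ≤ 7560 := (card_le1 r3A).trans (by decide)

def x5A : List Gen := [.a, .c, .d]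
def s5A : Lv := ⟨407, [], [(2, 4)], 150⟩
def k5A : List Kl := []
def d5A : List ℕ := []
def l5A : List Lv := [⟨244, [(407, 4), (612, 2), (478, 1)], [(1, 2), (2, 1)], 2⟩,
  ⟨0, [(244, 4)], [(1, 0)], 1⟩,
  ⟨1, [(335, 4), (244, 2), (334, 2)], [], 1⟩,
  ⟨32, [(478, 3), (334, 2), (2, 2), (1172, 2)], [(1, 2)], 1⟩,
  ⟨8, [(1172, 4), (244, 4), (172, 2)], [], 1⟩]
theorem r5A_0 : st1 5 x5A s5A k5A d5A = true := by decide +kernel
theorem r5A_1 : pre 5 x5A (List.take 2 l5A) (nxm 5 x5A [] s5A.p) = true := by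
  decide +kernel
theorem r5A_2 : pre 5 x5A (List.take 2 (List.drop 2 l5A)) (fl 5 x5A (List.take 2 l5A) (nxm 5 x5A [] s5A.p)) = true := by
  decide +kernel
theorem r5A_3 : run 5 x5A (List.drop 2 (List.drop 2 l5A)) (fl 5 x5A (List.take 2 (List.drop 2 l5A)) (fl 5 x5A (List.take 2 l5A) (nxm 5 x5A [] s5A.p))) = true := by
  decide +kernel
theorem r5A : run1 5 x5A s5A k5A d5A l5A = true := run1_mk r5A_0 (run_cut 2 r5A_1 (run_cut 2 r5A_2 r5A_3))
/-- `5A` -/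
theorem b5A : Nat.card ↥(centralizer ({wd x5A} : Set Cfsg.Spor.He)) ≤ 300 := (card_le1 r5A).trans (by decide)

def x4B : List Gen := [.f, .g]
def s4B : Lv := ⟨6, [], [(1, 3)], 96⟩
def k4B : List Kl := []
def d4B : List ℕ := []
def l4B : List Lv := [⟨798, [(43, 4), (38, 1)], [(1, 3)], 4⟩,
  ⟨0, [(43, 4), (798, 2)], [(2, 0)], 1⟩,
  ⟨1, [(798, 4), (6, 2)], [(2, 0)], 1⟩,
  ⟨32, [(7, 4), (742, 2), (15, 1), (43, 2), (757, 1)], [], 1⟩,
  ⟨8, [(54, 4), (770, 3)], [(1, 3)], 1⟩]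
theorem r4B_0 : st1 4 x4B s4B k4B d4B = true := by decide +kernel
theorem r4B_1 : pre 4 x4B (List.take 2 l4B) (nxm 4 x4B [] s4B.p) = true := by
  decide +kernel
theorem r4B_2 : run 4 x4B (List.drop 2 l4B) (fl 4 x4B (List.take 2 l4B) (nxm 4 x4B [] s4B.p)) = true := by
  decide +kernel
theorem r4B : run1 4 x4B s4B k4B d4B l4B = true := run1_mk r4B_0 (run_cut 2 r4B_1 r4B_2)
/-- `4B` -/
theorem b4B : Nat.card ↥(centralizer ({wd x4B} : Set Cfsg.Spor.He)) ≤ 384 := (card_le1 r4B).trans (by decide)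

def x4C : List Gen := [.b, .f, .g]
def s4C : Lv := ⟨15, [], [(2, 0), (1, 1)], 16⟩
def k4C : List Kl := []
def d4C : List ℕ := []
def l4C : List Lv := [⟨335, [(1, 3), (15, 1)], [(1, 2), (2, 2)], 4⟩,
  ⟨70, [(335, 4), (284, 2), (15, 1)], [(2, 2)], 2⟩,
  ⟨0, [(335, 4), (370, 4)], [(2, 0)], 1⟩,
  ⟨32, [(292, 3), (291, 2), (195, 2)], [(1, 1)], 1⟩,
  ⟨8, [(335, 4), (16, 3), (292, 2)], [], 1⟩]
theorem r4C_0 : st1 4 x4C s4C k4C d4C = true := by decide +kernel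
theorem r4C_1 : pre 4 x4C (List.take 2 l4C) (nxm 4 x4C [] s4C.p) = true := by
  decide +kernel
theorem r4C_2 : run 4 x4C (List.drop 2 l4C) (fl 4 x4C (List.take 2 l4C) (nxm 4 x4C [] s4C.p)) = true := by
  decide +kernel
theorem r4C : run1 4 x4C s4C k4C d4C l4C = true := run1_mk r4C_0 (run_cut 2 r4C_1 r4C_2)
/-- `4C` -/
theorem b4C : Nat.card ↥(centralizer ({wd x4C} : Set Cfsg.Spor.He)) ≤ 128 := (card_le1 r4C).trans (by decide)

def x6A : List Gen := [.a, .d, .e]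
def s6A : Lv := ⟨212, [], [(3, 0), (1, 1)], 36⟩
def k6A : List Kl := []
def d6A : List ℕ := []
def l6A : List Lv := [⟨118, [(212, 4), (211, 1)], [(1, 4)], 2⟩,
  ⟨0, [(212, 4)], [(1, 0)], 1⟩,
  ⟨1, [(212, 2), (118, 1)], [(1, 0)], 1⟩,
  ⟨32, [(207, 3), (118, 3), (211, 1)], [(3, 0)], 1⟩,
  ⟨8, [(201, 3), (0, 2), (118, 2), (32, 2)], [], 1⟩]
theorem r6A_0 : st1 6 x6A s6A k6A d6A = true := by decide +kernel
theorem r6A_1 : pre 6 x6A (List.take 2 l6A) (nxm 6 x6A [] s6A.p) = true := by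
  decide +kernel
theorem r6A_2 : run 6 x6A (List.drop 2 l6A) (fl 6 x6A (List.take 2 l6A) (nxm 6 x6A [] s6A.p)) = true := by
  decide +kernel
theorem r6A : run1 6 x6A s6A k6A d6A l6A = true := run1_mk r6A_0 (run_cut 2 r6A_1 r6A_2)
/-- `6A` -/
theorem b6A : Nat.card ↥(centralizer ({wd x6A} : Set Cfsg.Spor.He)) ≤ 72 := (card_le1 r6A).trans (by decide)

end Cfsg.Agent.H235.Ore.HeCert
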