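import Cfsg.Agent.H235.Ore.Eng
import Cfsg.Agent.H904.McLCent

/-!
# The automorphism group of the McLaughlin graph, as far as we need it (helper235)

`M2` : the group generated by `K0 = McL` and an outer involution `T`; all its elements preserve the graph; an element
of `M2` is determined by the images of five points.
-/

set_option autoImplicit false
set_option maxRecDepth 100000

namespace Cfsg.Agent.H235.Ore.McLM

open Cfsg.Agent.SporadicA.PermTab Cfsg.Agent.McLType.X275 Cfsg.Agent.McLType.Gens Cfsg.Agent.H904.McLCent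
open Cfsg.Agent.H235.Ore.Eng Subgroup Equiv

/-- colours: `2` equal, `1` adjacent, `0` not adjacent -/
def R (i j : ℕ) : ℕ := bif Nat.beq i j then 2 else bitM 275 adjM i j

theorem R_inv {c : Perm (Fin 275)} (hc : c ∈ autG 275 adjM) (i j : Fin 275) : R (c i) (c j) = R i j := by
  unfold R
  rw [mem_autG.1 hc i j]
  rcases h : Nat.beq (i : ℕ) j with _ | _
  · have h1 : Nat.beq (c i : ℕ) (c j) = false := by
      rcases h2 : Nat.beq (c i : ℕ) (c j) with _ | _
      · rfl
      · exfalso
        have h3 := c.injective (Fin.ext (Nat.eq_of_beq_eq_true h2))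
        rw [h3, Nat.beq_refl] at h
        exact absurd h (by decide)
    rw [h1]
  · rw [Fin.ext (Nat.eq_of_beq_eq_true h), Nat.beq_refl]

/-- the base -/
def base : List ℕ := [77, 267, 199, 7, 32]
/-- a resolving set -/
def D : List ℕ := [240, 52, 271, 0, 256, 264, 187, 268, 4, 191, 222, 164, 88, 1]
def steps : List (ℕ × List ℕ) := [(13, [267, 32, 77, 199, 7]), (150, [267, 32, 77, 199, 7]), (260, [199, 7, 77, 32, 267]), (52, [77, 267, 13, 199, 260, 7]), (187, [77, 267, 199, 7, 260, 13]), (222, [77, 267, 13, 260, 150]), (240, [77, 267, 32, 13, 260]), (1, [77, 240, 199, 7, 260]), (4, [32, 260, 77, 52, 187, 267, 7]), (191, [7, 150, 77, 52, 187, 240]), (256, [7, 150, 77, 52, 13, 240]), (264, [7, 52, 77, 187, 13, 222, 267, 199]), (271, [77, 52, 7, 13, 150, 32]), (0, [267, 222, 256, 7, 52, 77]), (88, [7, 52, 187, 1, 267]), (164, [77, 52, 32, 191, 260]), (268, [13, 52, 88, 77, 264, 199, 260])]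
def lit : List ℕ := [259102, 3210850, 62056, 711027, 272251, 767971, 120, 610509, 28444, 790570, 258321, 728605, 59302, 258888, 2925, 81985, 61327, 532531, 246007, 2431, 3241, 1655562, 538083, 179443, 1851259, 2365200, 6807, 81273, 200080, 553428, 81982, 20503, 2133306, 1853208, 62325, 79794, 1853371, 22842, 200070, 87805, 180316, 731520, 717426, 2302920, 258157, 2364508, 599490, 2363022, 259129, 730783, 238707, 531792, 711844, 22122, 735192, 1603908, 2305918, 533881, 593010, 709650, 551379, 789841, 258403, 1656543, 2191494, 21954, 540543, 62290, 8757, 22960, 560934, 2126115, 533745, 538336, 711135, 2311902, 2384892, 1831261, 258151, 60024, 78736, 197569, 81901, 85305, 0, 19957, 9478, 1614738, 1144534, 27084, 256933, 1659963, 1654210, 531451, 256135, 767754, 715393, 196833, 2217, 177958, 1833436, 238627, 2309502, 65722, 1659936, 258076, 256942, 1833444, 729252, 7299, 199864, 2389024, 6598, 1673823, 26247, 2303748, 1794070, 8775, 1778032, 19792, 2381886, 81729, 27, 1654345, 538353,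 205578, 259147, 1859925, 27217, 1837809, 1772469, 2132352, 1850313, 538014, 61276, 79555, 4, 6565, 2125794, 531552, 199993, 67800, 1830522, 2191621, 59404, 22611, 538120, 1673068, 982, 2185551, 258886, 86278, 19722, 2382735, 552178, 21871, 1833679, 2329158, 26490, 78843, 3024, 81165, 1595082, 1660746, 360885, 1682535, 1676083, 1603101, 1601614, 26356, 538272, 1601643, 1674030, 179344, 728392, 2368533, 770887, 59061, 2383842, 715159, 2362942, 538284, 710775, 2303157, 81166, 708940, 2362042, 539490, 8751, 2133057, 531684, 2171718, 2184924, 1839271, 540298, 1833546, 6591, 794208, 2309583, 1594354, 2362233, 728361, 531720, 737272, 557694, 2323576, 2302947, 22609, 538848, 2132364, 2126610, 2312424, 259047, 1662859, 87600, 1798455, 1831366, 2132361, 2368773, 610534, 2134512, 2296, 656127, 1595052, 538245, 206389, 1793370, 730809, 197074, 2132353, 2309580, 1600914, 2152119, 9720, 1774386, 2128950, 2310444, 538110, 2132325, 20766, 2132357, 28461, 9019, 1853443, 2370816, 1655586, 2323431,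 2310553, 2152281, 1679619, 6669, 2192454, 1660206, 557715, 1850935, 757, 1601049, 2310201, 26248, 2302939, 183738, 1601644, 65611, 1850934, 1601400, 19713, 2191404, 1653402, 2136729, 1856794, 1660692, 1600932, 1621323, 2309499, 2132355]

theorem steps_ok : uRun 275 R steps D base = true := by decide +kernel
theorem lit_eq : (List.range 275).map (code R D) = lit := by decide +kernel
theorem lit_ok : Eng.nodupB lit = true := by decide +kernel

theorem eq_one {c : Perm (Fin 275)} (hc : c ∈ autG 275 adjM) (hb : ∀ b ∈ base, Fx c b) : c = 1 :=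
  eq_one_of_base (R_inv hc) steps_ok hb lit_eq lit_ok

theorem eq_of_base {g h : Perm (Fin 275)} (hg : g ∈ autG 275 adjM) (hh : h ∈ autG 275 adjM)
    (hb : ∀ b ∈ base, ∀ hlt : b < 275, (g ⟨b, hlt⟩ : ℕ) = h ⟨b, hlt⟩) : g = h := by
  have h1 : h⁻¹ * g = 1 := by
    refine eq_one (mul_mem (inv_mem hh) hg) fun b hbm => ?_
    have hlt : b < 275 := (show ∀ b ∈ base, b < 275 by decide) b hbm
    refine ⟨hlt, ?_⟩
    rw [Perm.mul_apply, Fin.ext (hb b hbm hlt)]
    exact h.symm_apply_apply _
  exact (inv_mul_eq_one.1 h1).symm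

/-! ### Words -/

/-- the table of a letter -/
def tb (k : ℕ) : ℕ := e7.getD (Nat.mod k 7) 0
/-- the action of a word -/
def act (w : List ℕ) (i : ℕ) : ℕ := w.foldr (fun k j => lk (tb k) j) i
/-- a letter -/
def sg (k : ℕ) : Perm (Fin 275) := σ ⟨Nat.mod k 7, Nat.mod_lt _ (by norm_num)⟩
/-- the permutation of a word -/
def wd (w : List ℕ) : Perm (Fin 275) := (w.map sg).prod
/-- the action of the powers of a word -/
def pw (X : List ℕ) (k i : ℕ) : ℕ := Nat.rec i (fun _ j => act X j) k

theorem sg_mem (k : ℕ) : sg k ∈ K0 := subset_closure ⟨_, rfl⟩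

theorem wd_mem (w : List ℕ) : wd w ∈ K0 := by
  refine list_prod_mem fun g hg => ?_
  obtain ⟨k, -, rfl⟩ := List.mem_map.1 hg
  exact sg_mem k

theorem wd_nil : wd [] = 1 := rfl
theorem wd_cons (k : ℕ) (w : List ℕ) : wd (k :: w) = sg k * wd w := by unfold wd; rw [List.map_cons, List.prod_cons]
theorem wd_append (v w : List ℕ) : wd (v ++ w) = wd v * wd w := by unfold wd; rw [List.map_append, List.prod_append]

theorem act_eq (w : List ℕ) (i : Fin 275) : act w i = (wd w i : ℕ) := by
  induction w with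
  | nil => rfl
  | cons k w ih =>
    rw [wd_cons, Perm.mul_apply]
    show lk (tb k) (act w i) = _
    rw [ih]
    exact (e_spec ⟨Nat.mod k 7, Nat.mod_lt _ (by norm_num)⟩ (wd w i)).symm

theorem pv_pw (X : List ℕ) : Pv (wd X) (pw X) := by
  intro k i
  induction k with
  | zero => rfl
  | succ k ih =>
    rw [pow_succ', Perm.mul_apply, ← act_eq, ← ih]
    rfl

theorem sg_sq (k : ℕ) : sg k * sg k = 1 := by
  have h : ∀ k : Fin 7, ∀ b ∈ base, lk (e7.getD k 0) (lk (e7.getD k 0) b) = b := by decide +kernel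
  refine eq_of_base (mul_mem (K0_le (sg_mem k)) (K0_le (sg_mem k))) (one_mem _) fun b hb hlt => ?_
  rw [Perm.mul_apply]
  have h1 := h ⟨Nat.mod k 7, Nat.mod_lt _ (by norm_num)⟩ b hb
  have e1 := e_spec ⟨Nat.mod k 7, Nat.mod_lt _ (by norm_num)⟩ ⟨b, hlt⟩
  have e2 := e_spec ⟨Nat.mod k 7, Nat.mod_lt _ (by norm_num)⟩ (sg k ⟨b, hlt⟩)
  exact e2.trans ((congrArg _ e1).trans h1)

theorem wd_reverse (w : List ℕ) : wd w.reverse = (wd w)⁻¹ := by
  induction w with
  | nil => rw [List.reverse_nil, wd_nil, inv_one]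
  | cons k w ih =>
    rw [List.reverse_cons, wd_append, ih, wd_cons k [], wd_nil, mul_one, wd_cons k w, mul_inv_rev]
    congr 1
    exact (inv_eq_of_mul_eq_one_left (sg_sq k)).symm

/-- equality of words on the base -/
def chkB (X Y : List ℕ) : Bool := base.all fun b => Nat.beq (act X b) (act Y b)

theorem eq_of_chkB {X Y : List ℕ} (h : chkB X Y = true) : wd X = wd Y := by
  unfold chkB at h
  rw [List.all_eq_true] at h
  refine eq_of_base (K0_le (wd_mem X)) (K0_le (wd_mem Y)) fun b hb hlt => ?_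
  rw [← act_eq, ← act_eq]
  exact Nat.eq_of_beq_eq_true (h b hb)

/-! ### The outer involution -/

def tT : ℕ := 0x35c5984402412c608490000201c0cb07c1d8448e10582bc5e0d50502b4150a80343b06d0401881281207d11c204698460763641b0fa01c3505588512e2a4380d801a2588206d128340288530563e4770e4224274800ea1e20f0660de19c33c588d121007c64830168314630f71181988680b1000bc5a9010de1783184d10e1b85e8c72222c8668612042b87f03f1d20dc730fc14a0285382013c1141082603828c6b0580d60182084c1ce3881a8df1261c8488180d03cc3f8c305203c8286a16e1d07403d05c10c790bf11a05c7a0160180d00181000a4182b0860022481c8e51762d8700481362203488f0c030832065172024580670622e82e81304e0c82109c0741d40101e1b80546e82d0281385c09821c3d88606c0463c0511101041644c8f815841c420d21de15c389091543b44a87a0221682f8c817c20c281031b63f4458ff0b6280110f508e094508a41941500e89f0323ec0d8900fc1f02904f0b843c198781143ac7187b1802983110a00e2683b8040f21543990b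
theorem tT_ok : chkInv 275 tT tT = true := by decide +kernel
theorem tT_rows : chkAutBlk 275 adjM tT 0 275 = true := by decide +kernel
/-- an outer automorphism of the graph -/
def T : Perm (Fin 275) := mkPerm tT tT tT_ok

theorem T_spec (i : Fin 275) : (T i : ℕ) = lk tT i := rfl

theorem T_mem : T ∈ autG 275 adjM :=
  mem_autG_of_rowsOK T_spec (rowsOK_of_chk (chkInv_lt tT_ok) (chkInv_inj tT_ok) tT_rows)

theorem T_sq : T * T = 1 := by
  have h : ∀ b ∈ base, lk tT (lk tT b) = b := by decide +kernel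
  refine eq_of_base (mul_mem T_mem T_mem) (one_mem _) fun b hb hlt => ?_
  rw [Perm.mul_apply, T_spec, T_spec]
  exact h b hb

theorem T_inv : T⁻¹ = T := inv_eq_of_mul_eq_one_left T_sq

/-- the words of the conjugates of the generators -/
def tw : List (List ℕ) := [[1, 5, 4, 6, 5, 4, 3, 6, 3, 4, 1, 5, 4, 6, 5], [5, 4, 3, 5, 6, 2, 1, 3, 6, 2, 5, 3, 4, 5], [4, 5, 6, 1, 3, 1, 6, 5, 0, 4, 0], [6, 3, 4, 2, 3, 0, 6, 3, 6, 4, 0], [1, 0, 4, 3, 6, 5, 2, 1, 2, 6, 3, 6, 2, 5, 4, 6], [3, 2, 0, 6, 4, 6, 5, 3, 6, 5, 2, 3, 6, 1, 0, 4, 3, 5], [1, 6, 4, 2, 3, 6, 2, 5, 6, 3, 2, 5, 6, 4]]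

theorem T_conj (k : Fin 7) : T * σ k * T = wd (tw.getD k []) := by
  have h : ∀ k : Fin 7, ∀ b ∈ base, lk tT (lk (e7.getD k 0) (lk tT b)) = act (tw.getD k []) b := by decide +kernel
  refine eq_of_base (mul_mem (mul_mem T_mem (σ_mem k)) T_mem) (K0_le (wd_mem _)) fun b hb hlt => ?_
  have h1 := h k b hb
  rw [Perm.mul_apply, Perm.mul_apply, T_spec, e_spec, T_spec, ← act_eq]
  exact h1

theorem T_conj_mem {g : Perm (Fin 275)} (hg : g ∈ K0) : T * g * T ∈ K0 := by
  have h : K0 ≤ K0.comap (MulAut.conj T).toMonoidHom := by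
    refine (closure_le _).2 ?_
    rintro _ ⟨k, rfl⟩
    show T * σ k * T⁻¹ ∈ K0
    rw [T_inv, T_conj]
    exact wd_mem _
  have h1 : T * g * T⁻¹ ∈ K0 := h hg
  rwa [T_inv] at h1

/-- the group `K0 ∪ K0 T` -/
def M2 : Subgroup (Perm (Fin 275)) where
  carrier := {m | m ∈ K0 ∨ m * T ∈ K0}
  one_mem' := Or.inl (one_mem _)
  mul_mem' := by
    intro a b ha hb
    rcases ha with ha | ha <;> rcases hb with hb | hb
    · exact Or.inl (mul_mem ha hb)
    · exact Or.inr (by rw [mul_assoc]; exact mul_mem ha hb)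
    · right
      have h := mul_mem ha (T_conj_mem hb)
      have e : a * T * (T * b * T) = a * b * T := by
        rw [show a * T * (T * b * T) = a * (T * T) * b * T by group, T_sq, mul_one]
      rwa [e] at h
    · left
      have h := mul_mem ha (T_conj_mem hb)
      have e : a * T * (T * (b * T) * T) = a * b := by
        rw [show a * T * (T * (b * T) * T) = a * (T * T) * b * (T * T) by group, T_sq, mul_one, mul_one]
      rwa [e] at h
  inv_mem' := by
    intro a ha
    rcases ha with ha | ha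
    · exact Or.inl (inv_mem ha)
    · right
      have h := T_conj_mem (inv_mem ha)
      rw [mul_inv_rev, T_inv] at h
      have e : T * (T * a⁻¹) * T = a⁻¹ * T := by
        rw [show T * (T * a⁻¹) * T = (T * T) * a⁻¹ * T by group, T_sq, one_mul]
      rwa [e] at h

theorem mem_M2 {m : Perm (Fin 275)} : m ∈ M2 ↔ m ∈ K0 ∨ m * T ∈ K0 := Iff.rfl

theorem K0_le_M2 : K0 ≤ M2 := fun _ h => Or.inl h

theorem T_mem_M2 : T ∈ M2 := Or.inr (by rw [T_sq]; exact one_mem _)

theorem M2_le : M2 ≤ autG 275 adjM := by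
  intro m hm
  rcases mem_M2.1 hm with h | h
  · exact K0_le h
  · have h1 := mul_mem (K0_le h) T_mem
    rwa [mul_assoc, T_sq, mul_one] at h1

theorem conj_mem {m g : Perm (Fin 275)} (hm : m ∈ M2) (hg : g ∈ K0) : m * g * m⁻¹ ∈ K0 := by
  rcases mem_M2.1 hm with h | h
  · exact mul_mem (mul_mem h hg) (inv_mem h)
  · have h1 := mul_mem (mul_mem h (T_conj_mem hg)) (inv_mem h)
    have e : m * T * (T * g * T) * (m * T)⁻¹ = m * g * m⁻¹ := by
      rw [show m * T * (T * g * T) * (m * T)⁻¹ = m * (T * T) * g * m⁻¹ by group, T_sq, mul_one]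
    rwa [e] at h1

/-- `K0` as a subgroup of `M2` -/
def K : Subgroup ↥M2 := K0.subgroupOf M2

instance K_normal : K.Normal where
  conj_mem := fun n hn g => by
    rw [K, mem_subgroupOf] at hn ⊢
    exact conj_mem g.2 hn

theorem isoK0 : Cfsg.Spor.IsoMcL ↥K0 := by
  obtain ⟨f⟩ := isoMcL_G1
  have e : G1 ≃* ψ.range := MonoidHom.ofInjective ψ_injective
  rw [← range_ψ]
  exact ⟨e.symm.trans f⟩

theorem card_K0 : Nat.card K0 = 898128000 := card_L isoK0

theorem card_K : Nat.card K = 898128000 := by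
  rw [← card_K0]
  exact Nat.card_congr (subgroupOfEquivOfLe K0_le_M2).toEquiv

/-- an element of order 11 -/
def x11 : List ℕ := [4, 6, 5, 3]
theorem o11 : orderOf (wd x11) = 11 := orderOf_eq (pv_pw _) (ps := [11]) (by norm_num) (by norm_num)
  (by decide +kernel) (by norm_num)

theorem T_comm : T * wd x11 = wd x11 * T := by
  have h : ∀ b ∈ base, lk tT (act x11 b) = act x11 (lk tT b) := by decide +kernel
  refine eq_of_base (mul_mem T_mem (K0_le (wd_mem _))) (mul_mem (K0_le (wd_mem _)) T_mem) fun b hb hlt => ?_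
  rw [Perm.mul_apply, Perm.mul_apply, T_spec, ← act_eq, ← act_eq, T_spec]
  exact h b hb

/-- the centralizer of `x11` in `K0` -/
theorem cent11 {g : Perm (Fin 275)} (hg : g ∈ K0) (hc : g * wd x11 = wd x11 * g) : g ^ 11 = 1 := by
  let x : K0 := ⟨wd x11, wd_mem _⟩
  have hx : orderOf x = 11 := by rw [← o11]; exact (Subgroup.orderOf_coe x).symm
  have h1 := (eleven isoK0 (zpowers x) (by rw [Nat.card_zpowers, hx])).1
  have h2 : (⟨g, hg⟩ : K0) ∈ centralizer ((zpowers x : Subgroup K0) : Set K0) := by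
    rw [mem_centralizer_iff]
    intro y hy
    obtain ⟨j, rfl⟩ := mem_zpowers_iff.1 hy
    have h3 : Commute (⟨g, hg⟩ : K0) x := Subtype.ext hc
    exact (h3.zpow_right j).eq.symm
  have h3 := pow_card_eq_one' (G := centralizer ((zpowers x : Subgroup K0) : Set K0)) (x := ⟨_, h2⟩)
  rw [h1] at h3
  exact congrArg (fun z : ↥(centralizer ((zpowers x : Subgroup K0) : Set K0)) => ((z : K0) : Perm (Fin 275))) h3

theorem T_notMem : T ∉ K0 := by
  intro h
  have h1 := cent11 h T_comm
  have h2 : T ^ 11 = T := by rw [show (11 : ℕ) = 2 * 5 + 1 from rfl, pow_succ, pow_mul, pow_two, T_sq, one_pow, one_mul]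
  rw [h2] at h1
  have h3 : lk tT 0 ≠ 0 := by decide +kernel
  apply h3
  have h4 := T_spec 0
  rw [h1] at h4
  exact h4.symm

theorem card_M2 : 1796256000 ≤ Nat.card M2 := by
  have h1 := card_dvd_of_le K0_le_M2
  rw [card_K0] at h1
  obtain ⟨q, hq⟩ := h1
  have h2 : q ≠ 1 := by
    rintro rfl
    rw [mul_one, ← card_K0] at hq
    have h3 := eq_of_le_of_card_ge K0_le_M2 hq.le
    exact T_notMem (h3 ▸ T_mem_M2)
  have h4 : q ≠ 0 := by
    rintro rfl
    rw [mul_zero] at hq
    exact Nat.card_pos.ne' hq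
  omega

/-- `x11` is not conjugate to its inverse in `M2` -/
theorem nc11 {m : Perm (Fin 275)} (hm : m ∈ M2) : m * wd x11 * m⁻¹ ≠ (wd x11)⁻¹ := by
  intro h
  -- reduce to `K0`
  have key : ∀ g ∈ K0, g * wd x11 * g⁻¹ ≠ (wd x11)⁻¹ := by
    intro g hg h
    let x : K0 := ⟨wd x11, wd_mem _⟩
    let y : K0 := ⟨g, hg⟩
    have hx : orderOf x = 11 := by rw [← o11]; exact (Subgroup.orderOf_coe x).symm
    have h0 : y * x * y⁻¹ = x⁻¹ := Subtype.ext h
    have h1 := (eleven isoK0 (zpowers x) (by rw [Nat.card_zpowers, hx])).2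
    have h2 : y ∈ normalizer ((zpowers x : Subgroup K0) : Set K0) := by
      rw [mem_normalizer_iff]
      have h3 : (zpowers x).map (MulAut.conj y).toMonoidHom = zpowers x := by
        rw [MonoidHom.map_zpowers]
        show zpowers (y * x * y⁻¹) = _
        rw [h0, zpowers_inv]
      intro z
      constructor
      · intro hz
        rw [← h3]
        exact ⟨z, hz, rfl⟩
      · intro hz
        rw [← h3] at hz
        obtain ⟨w, hw, e⟩ := hz
        have e' : y * w * y⁻¹ = y * z * y⁻¹ := e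
        rw [mul_left_inj, mul_right_inj] at e'
        rw [← e']
        exact hw
    have h3 := pow_card_eq_one' (G := normalizer ((zpowers x : Subgroup K0) : Set K0)) (x := ⟨_, h2⟩)
    rw [h1] at h3
    have h4 : y ^ 55 = 1 := congrArg (fun z : ↥(normalizer ((zpowers x : Subgroup K0) : Set K0)) => (z : K0)) h3
    -- an odd power of `y` inverts `x`
    have h5 : ∀ j : ℕ, y ^ (2 * j + 1) * x * (y ^ (2 * j + 1))⁻¹ = x⁻¹ := by
      intro j
      induction j with
      | zero => rw [Nat.mul_zero, Nat.zero_add, pow_one]; exact h0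
      | succ j ih =>
        have e1 : y ^ (2 * (j + 1) + 1) = y * y * y ^ (2 * j + 1) := by
          rw [show 2 * (j + 1) + 1 = 2 + (2 * j + 1) by ring, pow_add, pow_two]
        have e2 : y * x⁻¹ * y⁻¹ = x := by
          rw [← inv_inj, mul_inv_rev, mul_inv_rev, inv_inv, inv_inv, ← mul_assoc]
          exact h0
        rw [e1, show y * y * y ^ (2 * j + 1) * x * (y * y * y ^ (2 * j + 1))⁻¹ =
          y * (y * (y ^ (2 * j + 1) * x * (y ^ (2 * j + 1))⁻¹) * y⁻¹) * y⁻¹ by group, ih, e2, h0]
    have h6 := h5 27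
    rw [show 2 * 27 + 1 = 55 from rfl, h4, inv_one, mul_one, one_mul] at h6
    have h7 : x ^ 2 = 1 := by
      rw [pow_two]
      nth_rw 1 [h6]
      exact inv_mul_cancel x
    have h8 := orderOf_dvd_of_pow_eq_one h7
    rw [hx] at h8
    norm_num at h8
  rcases mem_M2.1 hm with h1 | h1
  · exact key m h1 h
  · refine key _ h1 ?_
    rw [mul_inv_rev, T_inv, show m * T * wd x11 * (T * m⁻¹) = m * (T * wd x11) * T * m⁻¹ by group, T_comm,
      show m * (wd x11 * T) * T * m⁻¹ = m * wd x11 * (T * T) * m⁻¹ by group, T_sq, mul_one, h]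

/-! ### The bounds -/

/-- a word as an element of `M2` -/
def w2 (X : List ℕ) : ↥M2 := ⟨wd X, K0_le_M2 (wd_mem X)⟩

theorem w2_mem (X : List ℕ) : w2 X ∈ K := by
  rw [K, mem_subgroupOf]
  exact wd_mem X

theorem bnd {X : List ℕ} {l : List Lv} {m : ℕ} (h : run 275 R (pw X) m base l [] = true) :
    Nat.card ↥(centralizer ({w2 X} : Set ↥M2)) ≤ bd l := by
  have h1 : Nat.card ↥(centralizer ({w2 X} : Set ↥M2)) =
      Nat.card ↥((centralizer ({w2 X} : Set ↥M2)).map M2.subtype) :=
    Nat.card_congr ((centralizer ({w2 X} : Set ↥M2)).equivMapOfInjective M2.subtype M2.subtype_injective).toEquiv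
  rw [h1]
  refine le_of_run (pv_pw X) l [] _ (fun c hc => ?_) (fun c hc hb => ?_) (fun c _ f hf => absurd hf List.not_mem_nil) h
  · obtain ⟨d, hd, rfl⟩ := hc
    refine ⟨R_inv (M2_le d.2), ?_⟩
    exact congrArg Subtype.val (mem_centralizer_singleton_iff.1 hd)
  · obtain ⟨d, hd, rfl⟩ := hc
    exact eq_one (M2_le d.2) hb

end Cfsg.Agent.H235.Ore.McLM
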